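/-
Helper library (helper49): piece (P8) of helper25's proof of Bender–Glauberman 11.7.
-/
import Cfsg.Agent.Lib.Helper31.BG11a
import Cfsg.Agent.Lib.Helper31.BG11Ifc

set_option autoImplicit false
set_option linter.unusedVariables false
set_option linter.unusedSimpArgs false
set_option linter.style.haveILetI false

namespace Cfsg.Agent.Lib.Helper49.BG11

open Subgroup Cfsg
open Cfsg.Agent.Lib
open Cfsg.Agent.Lib.Helper24 Cfsg.Agent.Lib.Helper34
open Cfsg.Agent.Lib.Helper31.BG11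

universe u

variable {G : Type u} [Group G]

/-- `Ω₁(Z(W))` as an honest subgroup. -/
def omZ (q : ℕ) (W : Subgroup G) : Subgroup G where
  carrier := {x | x ∈ W ∧ x ∈ centralizer (W : Set G) ∧ x ^ q = 1}
  one_mem' := ⟨one_mem _, one_mem _, one_pow _⟩
  mul_mem' := by
    rintro a b ⟨ha, hac, haq⟩ ⟨hb, hbc, hbq⟩
    refine ⟨mul_mem ha hb, mul_mem hac hbc, ?_⟩
    have : Commute a b := (mem_centralizer_iff.mp hac b hb).symm
    rw [this.mul_pow, haq, hbq, one_mul]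
  inv_mem' := by
    rintro a ⟨ha, hac, haq⟩
    exact ⟨inv_mem ha, inv_mem hac, by rw [inv_pow, haq, inv_one]⟩

theorem mem_omZ {q : ℕ} {W : Subgroup G} {x : G} :
    x ∈ omZ q W ↔ x ∈ W ∧ x ∈ centralizer (W : Set G) ∧ x ^ q = 1 := Iff.rfl

theorem omZ_le (q : ℕ) (W : Subgroup G) : omZ q W ≤ W := fun _ hx => hx.1

theorem omZ_elemAb (q : ℕ) (W : Subgroup G) : IsElementaryAbelian q (omZ q W) := by
  refine ⟨⟨⟨fun a b => Subtype.ext ?_⟩⟩, fun a ha => ha.2.2⟩
  exact (mem_centralizer_iff.mp a.2.2.1 b b.2.1).symm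

theorem normalizer_le_normalizer_omZ (q : ℕ) (W : Subgroup G) :
    normalizer (W : Set G) ≤ normalizer (omZ q W : Set G) := by
  have key : ∀ g ∈ normalizer (W : Set G), ∀ x ∈ omZ q W, g * x * g⁻¹ ∈ omZ q W := by
    intro g hg x hx
    refine ⟨(mem_normalizer_iff.mp hg x).mp hx.1, ?_, ?_⟩
    · rw [mem_centralizer_iff]
      intro w hw
      have hw' : g⁻¹ * w * g ∈ W := by
        have := (mem_normalizer_iff.mp (inv_mem hg) w).mp hw
        simpa using this
      have h1 := mem_centralizer_iff.mp hx.2.1 _ hw'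
      calc w * (g * x * g⁻¹) = g * ((g⁻¹ * w * g) * x) * g⁻¹ := by group
        _ = g * (x * (g⁻¹ * w * g)) * g⁻¹ := by rw [h1]
        _ = g * x * g⁻¹ * w := by group
    · rw [conj_pow, hx.2.2]; group
  intro g hg
  rw [mem_normalizer_iff]
  intro x
  refine ⟨key g hg x, fun hx => ?_⟩
  have := key g⁻¹ (inv_mem hg) _ hx
  simpa [mul_assoc] using this

/-- (P8) -/
theorem exists_normal_order_q [Finite G] (hG : IsMinSimpleOddOrder G) (hU : UT G) (hPL : PL1 G)
    {M W : Subgroup G} {q : ℕ} [hqf : Fact q.Prime] (hM : IsCoatom M) (hq : q ∉ sigma M)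
    (hW : IsPGroup q W) (hWM : W ≤ M) (hMW : M ≤ normalizer (W : Set G))
    (hWH : W ≤ centralizer (sigmaCore M : Set G)) (hW1 : W ≠ ⊥) (hH1 : sigmaCore M ≠ ⊥) :
    ∃ Y : Subgroup G, Y ≤ W ∧ Nat.card Y = q ∧ M ≤ normalizer (Y : Set G) ∧
      ∀ x ∈ W, x ∈ centralizer (W : Set G) → x ^ q = 1 → x ∈ Y := by
  set B := omZ q W with hB
  have hBW : B ≤ W := omZ_le q W
  have hBM : B ≤ M := hBW.trans hWM
  have hBel : IsElementaryAbelian q B := omZ_elemAb q W
  have hBp : IsPGroup q B := isPGroup_of_exponent hBel.2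
  have hMB : M ≤ normalizer (B : Set G) := hMW.trans (normalizer_le_normalizer_omZ q W)
  have hB1 : B ≠ ⊥ := by
    obtain ⟨z, hz1, hz2, hz3, hz4⟩ := exists_central_order_p hW hW1
    intro hb
    have : z ∈ B := ⟨hz1, hz2, hz4⟩
    rw [hb, mem_bot] at this
    exact hz3 this
  have hr2 : PRankLE q 2 M := by
    by_contra h
    exact hq (alpha_subset_sigma hG hU hM ⟨hqf.out, h⟩)
  have hcard_le : Nat.card B ≤ q ^ 2 := (pRankLE_iff M).mp hr2 B hBM hBel.1 hBel.2
  obtain ⟨k, hk⟩ := hBp.exists_card_eq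
  have hk0 : k ≠ 0 := by
    rintro rfl
    rw [pow_zero] at hk
    exact hB1 (card_eq_one.mp hk)
  have hk2 : k ≤ 2 := by
    rw [hk] at hcard_le
    exact (Nat.pow_le_pow_iff_right hqf.out.one_lt).mp hcard_le
  have hk12 : k = 1 ∨ k = 2 := by omega
  rcases hk12 with rfl | rfl
  · exact ⟨B, hBW, by rw [hk, pow_one], hMB, fun x h1 h2 h3 => ⟨h1, h2, h3⟩⟩
  exfalso
  have hE2 : E2 q B :=
    ⟨hBel, hk, fun B' hB' hle => sigma'_rank2_max hG hU hM hq hBM hBel hk hB' hle⟩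
  have hBtop : B ≠ ⊤ := MS_isPGroup_ne_top hG hBp
  have hNB : normalizer (B : Set G) = M :=
    ((hM.le_iff_eq (MS_normalizer_ne_top hG hB1 hBtop)).mp hMB)
  have hCB : centralizer (B : Set G) ≤ M := by
    rw [← hNB]; exact centralizer_le_normalizer _
  obtain ⟨S, hS, hBS⟩ := exists_isSylowIn_ge hBM hBp
  have hqM : q ∣ Nat.card M := by
    have h1 : q ∣ Nat.card B := by rw [hk]; exact Dvd.intro_left q (by ring)
    exact h1.trans (card_dvd_of_le hBM)
  obtain ⟨x, hxS, hxM⟩ : ∃ x ∈ normalizer (S : Set G), x ∉ M := by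
    by_contra hcon
    push Not at hcon
    exact hq (mem_sigma_iff.mpr ⟨hqM, S, hS, hcon⟩)
  have hS1 : S ≠ ⊥ := sylow_ne_bot_of_dvd hS hqM
  obtain ⟨z, hzS, hzC, hz1, hzq⟩ := exists_central_order_p hS.2.1 hS1
  have hzB : z ∈ B := (hE2.omega (centralizer_le hBS hzC)).mp hzq
  have hxS' : cj x S = S := map_conj_eq_self_of_mem_normalizer hxS
  have hBxS : cj x B ≤ S := by
    rw [← hxS']; exact cj_mono x hBS
  have hzB' : z ∈ cj x B := ((hE2.cj x).omega (centralizer_le hBxS hzC)).mp hzq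
  set H' := centralizer ({z} : Set G) with hH'
  have hH'top : H' ≠ ⊤ := by
    intro htop
    have hzc : zpowers z ≤ center G := by
      rw [zpowers_le, mem_center_iff]
      intro g
      have : g ∈ H' := by rw [htop]; exact mem_top g
      exact (mem_centralizer_iff.mp this z rfl).symm
    have hzn : (zpowers z).Normal := by
      constructor
      intro n hn g
      have := mem_center_iff.mp (hzc hn) g
      have h2 : g * n * g⁻¹ = n := by rw [this]; group
      rwa [h2]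
    haveI := MS_simple hG
    rcases hzn.eq_bot_or_eq_top with h | h
    · exact hz1 (zpowers_eq_bot.mp h)
    · have hzp : IsPGroup q (zpowers z) := by
        apply isPGroup_of_exponent (p := q)
        intro a ha
        obtain ⟨n, rfl⟩ := mem_zpowers_iff.mp ha
        rw [← zpow_natCast, ← zpow_mul, mul_comm, zpow_mul, zpow_natCast, hzq, one_zpow]
      exact MS_isPGroup_ne_top hG hzp h
  have hmemH' : ∀ {K : Subgroup G}, z ∈ centralizer (K : Set G) → K ≤ H' := by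
    intro K hK y hy
    rw [hH', mem_centralizer_iff]
    intro w hw
    rw [Set.mem_singleton_iff] at hw
    subst hw
    exact (mem_centralizer_iff.mp hK y hy).symm
  have hBH' : B ≤ H' := hmemH' (centralizer_le hBS hzC)
  have hKH' : sigmaCore M ≤ H' := hmemH' (hWH (hBW hzB))
  have hKxH' : cj x (sigmaCore M) ≤ H' := by
    apply hmemH'
    rw [centralizer_map_conj]
    exact cj_mono x (hBW.trans hWH) hzB'
  -- a prime `r` dividing `|M_σ|`
  have hcard : Nat.card (sigmaCore M) ≠ 1 := fun h1 => hH1 (card_eq_one.mp h1)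
  obtain ⟨r, hr, hrd⟩ := Nat.exists_prime_and_dvd hcard
  haveI : Fact r.Prime := ⟨hr⟩
  have hrs : r ∈ sigma M := sc_primes M hr hrd
  have hqsc : ¬ q ∣ Nat.card (sigmaCore M) := fun hd => hq (sc_primes M hqf.out hd)
  have hrq : r ≠ q := fun h => hq (h ▸ hrs)
  have hrB : ¬ r ∣ Nat.card B := by
    rw [hk]
    intro hd
    exact hrq ((Nat.prime_dvd_prime_iff_eq hr hqf.out).mp (hr.dvd_of_dvd_pow hd))
  obtain ⟨Q₁, hQ₁, hBQ₁⟩ := exists_inv_sylow hBp hqsc (hBM.trans (sc_norm M)) r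
  have hMx := isCoatom_cj hM x
  have hrs' : r ∈ sigma (cj x M) := sigma_cj hrs x
  have hq' : ¬ q ∣ Nat.card (sigmaCore (cj x M)) := by
    rw [sc_cj, card_map_conj]
    exact hqsc
  have hBMx : B ≤ cj x M := by
    refine hBS.trans ?_
    rw [← hxS']
    exact cj_mono x hS.1
  obtain ⟨Q₂, hQ₂, hBQ₂⟩ := exists_inv_sylow hBp hq' (hBMx.trans (sc_norm _)) r
  have hQ₁1 : Q₁ ≠ ⊥ := sylow_ne_bot_of_dvd hQ₁ hrd
  have hQ₂1 : Q₂ ≠ ⊥ := sylow_ne_bot_of_dvd hQ₂ (by rw [sc_cj, card_map_conj]; exact hrd)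
  have h₁ : H' ⊓ Q₁ ≠ ⊥ := by
    rw [inf_eq_right.mpr (hQ₁.1.trans hKH')]; exact hQ₁1
  have h₂ : H' ⊓ Q₂ ≠ ⊥ := by
    have : Q₂ ≤ H' := by
      refine hQ₂.1.trans ?_
      rw [sc_cj]; exact hKxH'
    rw [inf_eq_right.mpr this]; exact hQ₂1
  have hQ₁M := sc_sylow hG hU hM hrs hQ₁
  have hQ₂M := sc_sylow hG hU hMx hrs' hQ₂
  have hT := hE2.trans hG hPL
  have m₁ := maxInvQ_of_sylow_top (sigma_isSylowIn_top hrs hQ₁M) hBQ₁
  have m₂ := maxInvQ_of_sylow_top (sigma_isSylowIn_top hrs' hQ₂M) hBQ₂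
  obtain ⟨k, hk', hkQ⟩ := Helper23.TransHyp.conj_of_common_overgroup hG hT r hrB
    Q₁ Q₂ m₁ m₂ H' hH'top hBH' h₁ h₂
  have hkM : k ∈ M := hCB (Helper23.piCoreOf_le _ _ hk')
  have h3 : IsSylowIn r Q₂ M := by
    have := hQ₁M.map_conj k
    rw [map_conj_eq_self_of_mem hkM] at this
    rw [← hkQ]
    exact this
  exact hxM (mem_of_sigma_sylow_le hrs h3 hQ₂M.1)

end Cfsg.Agent.Lib.Helper49.BG11
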