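/-
Helper library (helper49): Bender–Glauberman 11.5: the Sylow `p`-subgroups of an exceptional maximal
subgroup are abelian.  Built on helper31's `BG11a`.
-/
import Cfsg.Agent.Lib.Helper31.BG11a
import Cfsg.Agent.Lib.Helper31.BG11Ifc
import Cfsg.Agent.Lib.Helper23.R2a
import Cfsg.Agent.Lib.Helper22.Generation2
import Cfsg.Agent.S1453
import Cfsg.Agent.S1451

set_option autoImplicit false
set_option linter.unusedVariables false
set_option linter.unusedSimpArgs false
set_option linter.style.haveILetI false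

namespace Cfsg.Agent.Lib.Helper49.BG11

open Subgroup Cfsg
open scoped commutatorElement
open Cfsg.Agent.Lib
open Cfsg.Agent.Lib.Helper24 Cfsg.Agent.Lib.Helper34
open Cfsg.Agent.Lib.Helper31.BG11

universe u

variable {G : Type u} [Group G]

/-- elements of a join of two elementwise commuting subgroups. -/
theorem exists_mul_of_mem_sup_commuting {P₁ P₂ : Subgroup G} (hc : ∀ a ∈ P₁, ∀ b ∈ P₂, a * b = b * a)
    {x : G} (hx : x ∈ P₁ ⊔ P₂) : ∃ a ∈ P₁, ∃ b ∈ P₂, x = a * b := by
  have hle : P₁ ≤ normalizer (P₂ : Set G) := by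
    intro a ha
    rw [mem_normalizer_iff]
    intro b
    constructor
    · intro hb
      have : a * b * a⁻¹ = b := by rw [hc a ha b hb]; group
      rwa [this]
    · intro hb
      have h1 := hc a ha _ hb
      have : a * b * a⁻¹ = b := by
        have h2 : a * (a * b * a⁻¹) = a * b := by
          rw [h1]; group
        exact mul_left_cancel h2
      rwa [this] at hb
  have h := coe_mul_of_left_le_normalizer_right P₁ P₂ hle
  have hx' : x ∈ ((P₁ ⊔ P₂ : Subgroup G) : Set G) := hx
  rw [h] at hx'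
  obtain ⟨a, ha, b, hb, rfl⟩ := Set.mem_mul.mp hx'
  exact ⟨a, ha, b, hb, rfl⟩

/-- P1, rank at most two. -/
theorem commute_of_rank2 [Finite G] {p : ℕ} [hp : Fact p.Prime] {A : Subgroup G} (hA : E2 p A)
    (h12 : H1412 G) (S : Sylow p G) (hAS : A ≤ (S : Subgroup G)) (hr : PRankLE p 2 (S : Subgroup G))
    {u v : G} (hu : u ∈ (S : Subgroup G)) (hv : v ∈ (S : Subgroup G))
    (huA : u ∈ centralizer (A : Set G)) (hvA : v ∈ centralizer (A : Set G)) : u * v = v * u := by
  rcases h12 p S hr with hab | ⟨P₁, P₂, hsup, hc, hna, hcard, hexp, hcyc, hcl⟩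
  · have := hab.is_comm.comm ⟨u, hu⟩ ⟨v, hv⟩
    exact congrArg Subtype.val this
  · have hP₁p : ∀ a ∈ P₁, a ^ p = 1 := by
      intro a ha
      have := Monoid.pow_exponent_eq_one (⟨a, ha⟩ : P₁)
      rw [hexp] at this
      exact congrArg Subtype.val this
    have hP₂c : ∀ b ∈ P₂, ∀ b' ∈ P₂, b * b' = b' * b := by
      intro b hb b' hb'
      haveI := hcyc
      have := (IsCyclic.isMulCommutative (α := P₂)).is_comm.comm ⟨b, hb⟩ ⟨b', hb'⟩
      exact congrArg Subtype.val this
    -- `A ≤ P₁`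
    have hAP₁ : A ≤ P₁ := by
      intro w hw
      have hwS : w ∈ P₁ ⊔ P₂ := hsup ▸ hAS hw
      obtain ⟨a, ha, b, hb, rfl⟩ := exists_mul_of_mem_sup_commuting hc hwS
      have hwp : (a * b) ^ p = 1 := hA.elem.2 _ hw
      have hab : Commute a b := hc a ha b hb
      rw [hab.mul_pow, hP₁p a ha, one_mul] at hwp
      have hb1 : b ∈ closure {x : G | x ∈ P₂ ∧ x ^ p = 1} := Subgroup.subset_closure ⟨hb, hwp⟩
      rw [hcl] at hb1
      exact P₁.mul_mem ha hb1.1
    -- decomposition
    have key : ∀ w ∈ (S : Subgroup G), w ∈ centralizer (A : Set G) → ∃ a ∈ A, ∃ b ∈ P₂, w = a * b := by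
      intro w hw hwA
      have hwS : w ∈ P₁ ⊔ P₂ := hsup ▸ hw
      obtain ⟨a, ha, b, hb, rfl⟩ := exists_mul_of_mem_sup_commuting hc hwS
      refine ⟨a, ?_, b, hb, rfl⟩
      have haA : a ∈ centralizer (A : Set G) := by
        rw [mem_centralizer_iff] at hwA ⊢
        intro x hx
        have h1 := hwA x hx
        have h2 : x * b = b * x := hc x (hAP₁ hx) b hb
        -- x * (a*b) = (a*b) * x
        have h3 : x * a * b = a * x * b := by
          calc x * a * b = x * (a * b) := by group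
            _ = a * b * x := h1
            _ = a * (b * x) := by group
            _ = a * (x * b) := by rw [h2]
            _ = a * x * b := by group
        exact mul_right_cancel h3
      exact (hA.omega haA).mp (hP₁p a ha)
    obtain ⟨a, ha, b, hb, rfl⟩ := key u hu huA
    obtain ⟨a', ha', b', hb', rfl⟩ := key v hv hvA
    have e1 : a * a' = a' * a := by
      have := hA.elem.1.is_comm.comm ⟨a, ha⟩ ⟨a', ha'⟩
      exact congrArg Subtype.val this
    have e2 : b * a' = a' * b := (hc a' (hAP₁ ha') b hb).symm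
    have e3 : b' * a = a * b' := (hc a (hAP₁ ha) b' hb').symm
    have e4 := hP₂c b hb b' hb'
    calc a * b * (a' * b') = a * (b * a') * b' := by group
      _ = a * (a' * b) * b' := by rw [e2]
      _ = (a * a') * (b * b') := by group
      _ = (a' * a) * (b' * b) := by rw [e1, e4]
      _ = a' * (a * b') * b := by group
      _ = a' * (b' * a) * b := by rw [e3]
      _ = a' * b' * (a * b) := by group

/-- P1, rank at least three (type level). -/
theorem commute_of_rank3_aux {R : Type*} [Group R] [Finite R] (p : ℕ) [hp : Fact p.Prime] (hp2 : p ≠ 2)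
    (hR : IsPGroup p R) (hr : ¬ PRankLE p 2 R) (E : Subgroup R) (hE : IsElementaryAbelian p E)
    (hE2 : Nat.card E = p ^ 2)
    (hEmax : ∀ B : Subgroup R, IsElementaryAbelian p B → E ≤ B → B = E)
    {u v : R} (hu : u ∈ centralizer (E : Set R)) (hv : v ∈ centralizer (E : Set R)) :
    u * v = v * u := by
  obtain ⟨hnle, -, -, hchar, hidx⟩ := Cfsg.Agent.S1453.result p hp2 hR hr E hE hE2 hEmax
  generalize centralizer ((closure {x : R | x ∈ Subgroup.upperCentralSeries R 2 ∧ x ^ p = 1} :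
    Subgroup R) : Set R) = T at hnle hchar hidx
  obtain ⟨x₀, hx₀E, hx₀T⟩ := SetLike.not_le_iff_exists.mp hnle
  haveI := hchar
  haveI : T.Normal := inferInstance
  have hcardT : Nat.card (⊤ : Subgroup R) = p * Nat.card T := by
    rw [Subgroup.card_top, ← Subgroup.card_mul_index T, hidx, mul_comm]
  have hdec := Helper23R.exists_pow_mul_of_card hp.out (N := T) (H := ⊤) le_top hcardT
    (x := x₀) (mem_top _) hx₀T (by rw [normalizer_eq_top]; exact mem_top _)
  have hx₀c : x₀ ∈ centralizer (E : Set R) := by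
    rw [mem_centralizer_iff]
    intro y hy
    have := hE.1.is_comm.comm ⟨y, hy⟩ ⟨x₀, hx₀E⟩
    exact congrArg Subtype.val this
  -- `C₁ = T ⊓ C(E)` is cyclic
  have hcyc : IsCyclic ↥(T ⊓ centralizer (E : Set R)) := by
    apply isCyclic_of_pRankLE_one hp2 (hR.to_subgroup _)
    rw [pRankLE_iff]
    intro F hF hFc hFp
    have hFE : F ≤ E ⊓ T := by
      intro f hf
      exact ⟨mem_of_maximal_elementaryAbelian p E hE hEmax f (hF hf).2 (hFp f hf), (hF hf).1⟩
    have h1 : Nat.card ↥(E ⊓ T) ≤ p := by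
      apply le_of_dvd_sq_of_lt hp.out
      · rw [← hE2]; exact Subgroup.card_dvd_of_le inf_le_left
      · rw [← hE2]
        apply Helper24.card_lt_of_lt
        refine lt_of_le_of_ne inf_le_left ?_
        intro h
        have h2 : x₀ ∈ E ⊓ T := by rw [h]; exact hx₀E
        exact hx₀T h2.2
    rw [pow_one]
    exact (Subgroup.card_le_of_le hFE).trans h1
  have key : ∀ w ∈ centralizer (E : Set R), ∃ i : ℕ, ∃ n ∈ T ⊓ centralizer (E : Set R), w = x₀ ^ i * n := by
    intro w hw
    obtain ⟨i, n, hn, rfl⟩ := hdec w (mem_top _)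
    refine ⟨i, n, ⟨hn, ?_⟩, rfl⟩
    have : n = (x₀ ^ i)⁻¹ * (x₀ ^ i * n) := by group
    rw [this]
    exact Subgroup.mul_mem _ (Subgroup.inv_mem _ (Subgroup.pow_mem _ hx₀c i)) hw
  obtain ⟨i, n, hn, rfl⟩ := key u hu
  obtain ⟨j, n', hn', rfl⟩ := key v hv
  have e1 : n * n' = n' * n := by
    haveI := hcyc
    have := (IsCyclic.isMulCommutative (α := ↥(T ⊓ centralizer (E : Set R)))).is_comm.comm
      ⟨n, hn⟩ ⟨n', hn'⟩
    exact congrArg Subtype.val this
  have c1 : Commute x₀ n := (mem_centralizer_iff.mp hn.2 x₀ hx₀E)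
  have c2 : Commute x₀ n' := (mem_centralizer_iff.mp hn'.2 x₀ hx₀E)
  have c3 : Commute n n' := e1
  have : Commute (x₀ ^ i * n) (x₀ ^ j * n') := by
    apply Commute.mul_left
    · apply Commute.mul_right
      · exact (Commute.refl x₀).pow_pow i j
      · exact c2.pow_left i
    · apply Commute.mul_right
      · exact (c1.pow_left j).symm
      · exact c3
  exact this

/-- P1: the centralizer of `A` in a `p`-subgroup is abelian. -/
theorem commute_of_le_centralizer [Finite G] (hG : IsMinSimpleOddOrder G) {p : ℕ} [hp : Fact p.Prime]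
    {A : Subgroup G} (hA : E2 p A) (h12 : H1412 G) {P : Subgroup G} (hP : IsPGroup p P) (hAP : A ≤ P)
    {u v : G} (hu : u ∈ P) (hv : v ∈ P)
    (huA : u ∈ centralizer (A : Set G)) (hvA : v ∈ centralizer (A : Set G)) : u * v = v * u := by
  obtain ⟨S, hS⟩ := hP.exists_le_sylow
  by_cases hr : PRankLE p 2 (S : Subgroup G)
  · exact commute_of_rank2 hA h12 S (hAP.trans hS) hr (hS hu) (hS hv) huA hvA
  · have hp2 : p ≠ 2 := by
      apply MS_prime_ne_two hG (H := A)
      rw [hA.card]; exact dvd_pow_self p (by norm_num)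
    have hAS := hAP.trans hS
    have hE : IsElementaryAbelian p (A.subgroupOf (S : Subgroup G)) := by
      refine ⟨⟨⟨?_⟩⟩, ?_⟩
      · rintro ⟨a, ha⟩ ⟨b, hb⟩
        have := hA.elem.1.is_comm.comm ⟨(a : G), mem_subgroupOf.mp ha⟩ ⟨(b : G), mem_subgroupOf.mp hb⟩
        apply Subtype.ext; apply Subtype.ext
        exact congrArg (fun z : A => (z : G)) this
      · intro a ha
        apply Subtype.ext
        exact hA.elem.2 _ (mem_subgroupOf.mp ha)
    have hE2 : Nat.card (A.subgroupOf (S : Subgroup G)) = p ^ 2 := by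
      rw [← hA.card]
      exact Nat.card_congr (subgroupOfEquivOfLe hAS).toEquiv
    have hEmax : ∀ B : Subgroup (S : Subgroup G), IsElementaryAbelian p B →
        A.subgroupOf (S : Subgroup G) ≤ B → B = A.subgroupOf (S : Subgroup G) := by
      intro B hB hle
      have hB' : IsElementaryAbelian p (B.map (S : Subgroup G).subtype) := by
        haveI := hB.1
        refine ⟨inferInstance, ?_⟩
        rintro _ ⟨b, hb, rfl⟩
        exact congrArg Subtype.val (hB.2 b hb)
      have hle' : A ≤ B.map (S : Subgroup G).subtype := by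
        intro a ha
        exact ⟨⟨a, hAS ha⟩, hle (mem_subgroupOf.mpr ha), rfl⟩
      have := hA.max _ hB' hle'
      ext b
      rw [mem_subgroupOf, ← this]
      constructor
      · intro hb; exact ⟨b, hb, rfl⟩
      · rintro ⟨b', hb', h⟩
        have : b' = b := Subtype.ext h
        rwa [← this]
    have hc : ∀ w : G, ∀ hw : w ∈ (S : Subgroup G), w ∈ centralizer (A : Set G) →
        (⟨w, hw⟩ : (S : Subgroup G)) ∈ centralizer ((A.subgroupOf (S : Subgroup G) : Subgroup _) : Set _) := by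
      intro w hw hwA
      rw [mem_centralizer_iff]
      intro y hy
      apply Subtype.ext
      exact mem_centralizer_iff.mp hwA _ (mem_subgroupOf.mp hy)
    have := commute_of_rank3_aux p hp2 S.2 hr _ hE hE2 hEmax (hc u (hS hu) huA) (hc v (hS hv) hvA)
    exact congrArg Subtype.val this

/-- `σ(M)` is not empty. -/
theorem exists_mem_sigma [Finite G] (hG : IsMinSimpleOddOrder G) (hU : UT G) {M : Subgroup G}
    (hM : IsCoatom M) : ∃ q, q ∈ sigma M := by
  by_cases hr : RankLE 2 (fittingSubgroup M)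
  · haveI : Group.IsSolvable M := MS_solvable hG hM.1
    have h51 := (Cfsg.Agent.S1451.result (G := M) (MS_odd hG M) (Or.inr hr)).2.2
    have hMne : M ≠ ⊥ := MS_coatom_ne_bot hG hM
    have hcard : Nat.card M ≠ 1 := fun h => hMne (Subgroup.card_eq_one.mp h)
    have hne : (Nat.card M).primeFactors.Nonempty := by
      rw [Nat.nonempty_primeFactors]
      have : 0 < Nat.card M := Nat.card_pos
      omega
    set q₀ := (Nat.card M).primeFactors.max' hne with hq₀
    have hq₀mem : q₀ ∈ (Nat.card M).primeFactors := Finset.max'_mem _ hne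
    have hq₀p : q₀.Prime := Nat.prime_of_mem_primeFactors hq₀mem
    have hq₀d : q₀ ∣ Nat.card M := Nat.dvd_of_mem_primeFactors hq₀mem
    haveI : Fact q₀.Prime := ⟨hq₀p⟩
    obtain ⟨N, hNchar, hN1, hN2⟩ := h51 (q₀ - 1)
    haveI := hNchar
    haveI : N.Normal := inferInstance
    have hNq : IsPGroup q₀ N := by
      have : ∀ r : ℕ, r.Prime → r ∣ Nat.card N → r = q₀ := by
        intro r hr hrd
        have h1 := (hN1 r hr hrd).2
        have h2 : r ∈ (Nat.card M).primeFactors :=
          Nat.mem_primeFactors.mpr ⟨hr, hrd.trans (Subgroup.card_subgroup_dvd_card N), Nat.card_pos.ne'⟩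
        have h3 : r ≤ q₀ := Finset.le_max' _ _ h2
        omega
      rw [IsPGroup.iff_card]
      exact ⟨_, Nat.eq_prime_pow_of_unique_prime_dvd Nat.card_pos.ne' (fun {r} hr hrd => this r hr hrd)⟩
    have hNi : ¬ q₀ ∣ N.index := hN2 q₀ hq₀p ⟨hq₀p, by have := hq₀p.pos; omega⟩
    refine ⟨q₀, mem_sigma_iff.2 ⟨hq₀d, N.map M.subtype, ⟨map_subtype_le _, hNq.map _, ?_⟩, ?_⟩⟩
    · rw [relIndex_map_subtype]; exact hNi
    · -- normalizer
      have hle : M ≤ normalizer ((N.map M.subtype : Subgroup G) : Set G) := by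
        intro m hm
        rw [mem_normalizer_iff]
        intro x
        constructor
        · rintro ⟨n, hn, rfl⟩
          exact ⟨⟨m, hm⟩ * n * ⟨m, hm⟩⁻¹, ‹N.Normal›.conj_mem n hn _, rfl⟩
        · rintro ⟨n, hn, hx⟩
          refine ⟨⟨m, hm⟩⁻¹ * n * ⟨m, hm⟩, ?_, ?_⟩
          · have := ‹N.Normal›.conj_mem n hn (⟨m, hm⟩⁻¹)
            simpa using this
          · have : (M.subtype (⟨m, hm⟩⁻¹ * n * ⟨m, hm⟩) : G) = m⁻¹ * (M.subtype n) * m := rfl
            rw [this, hx]; group
      have hNbot : N.map M.subtype ≠ ⊥ := by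
        intro h
        have h1 : Nat.card (N.map M.subtype) = 1 := by rw [h]; exact Subgroup.card_bot
        rw [Subgroup.card_map_of_injective M.subtype_injective] at h1
        have h2 := Subgroup.card_mul_index N
        rw [h1, one_mul] at h2
        exact hNi (h2 ▸ hq₀d)
      have hNtop : N.map M.subtype ≠ ⊤ := MS_isPGroup_ne_top hG (hNq.map _)
      have hnt := MS_normalizer_ne_top hG hNbot hNtop
      by_contra hcon
      have hlt : M < normalizer ((N.map M.subtype : Subgroup G) : Set G) :=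
        lt_of_le_of_ne hle (fun h => hcon (by rw [← h]))
      exact hnt (hM.2 _ hlt)
  · unfold RankLE at hr
    push Not at hr
    obtain ⟨q, hq, hqr⟩ := hr
    refine ⟨q, alpha_subset_sigma hG hU hM ⟨hq, fun h => hqr ?_⟩⟩
    intro A hA hAp
    have := h (A.map (fittingSubgroup M).subtype) inferInstance
      (by rintro _ ⟨a, ha, rfl⟩; exact congrArg Subtype.val (hAp a ha))
    rwa [Subgroup.card_map_of_injective (fittingSubgroup M).subtype_injective] at this

theorem sc_ne_bot [Finite G] (hG : IsMinSimpleOddOrder G) (hU : UT G) {M : Subgroup G}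
    (hM : IsCoatom M) : sigmaCore M ≠ ⊥ := by
  obtain ⟨q, hq⟩ := exists_mem_sigma hG hU hM
  intro h
  have h1 := (sc_hall hG hU hM).2.2 q hq.1 hq
  rw [h, relIndex_bot_left] at h1
  exact h1 hq.2.1

/-- The `p`-group lemma (BG 10.13-like): a nonabelian `p`-group containing a maximal elementary abelian
subgroup `A` of order `p ^ 2`. -/
theorem exists_Z₀ [Finite G] (hG : IsMinSimpleOddOrder G) {p : ℕ} [hp : Fact p.Prime]
    {A : Subgroup G} (hA : E2 p A) (h12 : H1412 G) {P : Subgroup G} (hP : IsPGroup p P) (hAP : A ≤ P)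
    (hna : ∃ u ∈ P, ∃ v ∈ P, u * v ≠ v * u) :
    ∃ Z₀ : Subgroup G, Z₀ ≤ A ∧ Nat.card Z₀ = p ∧ Z₀ ≤ centralizer (P : Set G) ∧
      (∀ g ∈ normalizer (P : Set G), cj g Z₀ = Z₀) ∧
      ∀ A₀ : Subgroup G, A₀ ≤ A → Nat.card A₀ = p → A₀ ≠ Z₀ → ∀ a ∈ A, a ∉ Z₀ →
        ∃ x ∈ P, x * a * x⁻¹ ∈ A₀ := by
  classical
  have hAcomm : ∀ a ∈ A, ∀ b ∈ A, a * b = b * a := by
    intro a ha b hb
    have := hA.elem.1.is_comm.comm ⟨a, ha⟩ ⟨b, hb⟩
    exact congrArg Subtype.val this
  -- Step 1
  have hlt : P ⊓ centralizer (A : Set G) < P := by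
    refine lt_of_le_of_ne inf_le_left ?_
    intro h
    obtain ⟨u, hu, v, hv, huv⟩ := hna
    have hu' : u ∈ P ⊓ centralizer (A : Set G) := by rw [h]; exact hu
    have hv' : v ∈ P ⊓ centralizer (A : Set G) := by rw [h]; exact hv
    exact huv (commute_of_le_centralizer hG hA h12 hP hAP hu hv hu'.2 hv'.2)
  obtain ⟨y, hyP, hyN, hyC⟩ := Helper22.exists_mem_normalizer_not_mem hP hlt
  have hyA' : ∀ t ∈ normalizer ((P ⊓ centralizer (A : Set G) : Subgroup G) : Set G), ∀ a ∈ A,
      t * a * t⁻¹ ∈ A := by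
    intro t ht a ha
    have h1 : a ∈ P ⊓ centralizer (A : Set G) := ⟨hAP ha, hA.comm ha⟩
    have h2 := (mem_normalizer_iff.mp ht a).mp h1
    apply (hA.omega h2.2).mp
    rw [conj_pow, hA.elem.2 a ha]; group
  have hyA : y ∈ normalizer (A : Set G) := by
    rw [mem_normalizer_iff]
    intro a
    refine ⟨hyA' y hyN a, fun h => ?_⟩
    have := hyA' y⁻¹ (inv_mem hyN) _ h
    have e : y⁻¹ * (y * a * y⁻¹) * y⁻¹⁻¹ = a := by group
    rwa [e] at this
  have hyCA : y ∉ centralizer (A : Set G) := fun h => hyC ⟨hyP, h⟩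
  -- Step 2
  set Z₀ : Subgroup G := A ⊓ centralizer (P : Set G) with hZ₀
  have hmemZ : ∀ z : G, z ∈ P → z ∈ centralizer (P : Set G) → z ^ p = 1 → z ∈ Z₀ := by
    intro z _ hzc hzp
    refine ⟨(hA.omega ?_).mp hzp, hzc⟩
    exact centralizer_le (show (A : Set G) ⊆ P from hAP) hzc
  have hPne : P ≠ ⊥ := by
    intro h
    apply hA.ne_bot
    rw [eq_bot_iff, ← h]; exact hAP
  obtain ⟨z, hzP, hzc, hz1, hzp⟩ := exists_central_order_p hP hPne
  have hzZ : z ∈ Z₀ := hmemZ z hzP hzc hzp
  have hZne : Z₀ ≠ ⊥ := by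
    intro h
    rw [h, mem_bot] at hzZ
    exact hz1 hzZ
  have hZA : Z₀ ≠ A := by
    intro h
    apply hyCA
    rw [mem_centralizer_iff]
    intro a ha
    have : a ∈ Z₀ := by rw [h]; exact ha
    exact (mem_centralizer_iff.mp this.2 y hyP).symm
  have hZcard : Nat.card Z₀ = p := by
    apply eq_of_dvd_sq_of_lt_of_lt hp.out
    · rw [← hA.card]; exact Subgroup.card_dvd_of_le inf_le_left
    · rw [Subgroup.one_lt_card_iff_ne_bot]; exact hZne
    · rw [← hA.card]
      exact Helper24.card_lt_of_lt (lt_of_le_of_ne inf_le_left hZA)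
  refine ⟨Z₀, inf_le_left, hZcard, inf_le_right, ?_, ?_⟩
  · -- invariance
    intro g hg
    apply cj_eq_of_le_of_card _ le_rfl
    rintro _ ⟨w, hw, rfl⟩
    show g * w * g⁻¹ ∈ Z₀
    have hw' : w ∈ Z₀ := hw
    apply hmemZ
    · exact (mem_normalizer_iff.mp hg w).mp (hAP hw'.1)
    · rw [mem_centralizer_iff]
      intro x hx
      have hx' : g⁻¹ * x * g⁻¹⁻¹ ∈ P := (mem_normalizer_iff.mp (inv_mem hg) x).mp hx
      have := mem_centralizer_iff.mp hw'.2 _ hx'
      calc x * (g * w * g⁻¹) = g * ((g⁻¹ * x * g⁻¹⁻¹) * w) * g⁻¹ := by group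
        _ = g * (w * (g⁻¹ * x * g⁻¹⁻¹)) * g⁻¹ := by rw [this]
        _ = g * w * g⁻¹ * x := by group
    · rw [conj_pow, hA.elem.2 w hw'.1]; group
  · intro A₀ hA₀A hA₀c hA₀Z a ha haZ
    -- `y` acts trivially on `A / Z₀`
    obtain ⟨n, hn⟩ := (IsPGroup.iff_orderOf.mp hP) ⟨y, hyP⟩
    have hyn : y ^ p ^ n = 1 := by
      have h1 : orderOf y = p ^ n := by rw [← hn]; exact (Subgroup.orderOf_mk y hyP).symm
      rw [← h1]; exact pow_orderOf_eq_one y
    have hcop : (p ^ n).Coprime (p - 1) := by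
      apply Nat.Coprime.pow_left
      have h1 : 1 ≤ p := hp.out.one_le
      have h2 : p = (p - 1) + 1 := by omega
      rw [Nat.coprime_comm]
      nth_rewrite 2 [h2]
      simp
    have hyZ : y ∈ normalizer (Z₀ : Set G) := by
      rw [mem_normalizer_iff]
      intro w
      have hcw : ∀ w ∈ Z₀, y * w * y⁻¹ = w := by
        intro w hw
        have := mem_centralizer_iff.mp hw.2 y hyP
        rw [this]; group
      constructor
      · intro hw; rw [hcw w hw]; exact hw
      · intro hw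
        have h1 := hcw _ hw
        have h2 : y * w * y⁻¹ = w := by
          have : y * (y * w * y⁻¹) * y⁻¹ = y * w * y⁻¹ := h1
          have h3 : y * (y * w * y⁻¹) = y * w := by
            calc y * (y * w * y⁻¹) = (y * (y * w * y⁻¹) * y⁻¹) * y := by group
              _ = (y * w * y⁻¹) * y := by rw [this]
              _ = y * w := by group
          exact mul_left_cancel h3
        rwa [h2] at hw
    have hidx : Z₀.relIndex A = p := by
      have h1 := relIndex_mul_card' (inf_le_left : Z₀ ≤ A)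
      rw [hZcard, hA.card, pow_two] at h1
      exact Nat.eq_of_mul_eq_mul_right hp.out.pos h1
    have hAZ : A ≤ normalizer (Z₀ : Set G) := by
      intro b hb
      rw [mem_normalizer_iff]
      intro w
      have hcw : ∀ w ∈ A, b * w * b⁻¹ = w := by
        intro w hw
        rw [hAcomm b hb w hw]; group
      constructor
      · intro hw; rw [hcw w hw.1]; exact hw
      · intro hw
        have hwA : w ∈ A := by
          have h1 : b⁻¹ * (b * w * b⁻¹) * b ∈ A := A.mul_mem (A.mul_mem (A.inv_mem hb) hw.1) hb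
          have e : b⁻¹ * (b * w * b⁻¹) * b = w := by group
          rwa [e] at h1
        rwa [hcw w hwA] at hw
    have hsec := mem_sectionCent_of_coprime p (p ^ n) hcop A Z₀ y hyn inf_le_left hAZ hyA hyZ hidx
    have hc : ⁅y, a⁆ ∈ Z₀ := hsec.2 a ha
    -- `⁅y, a⁆ ≠ 1`
    have hCy : A ⊓ centralizer ({y} : Set G) = Z₀ := by
      symm
      apply Subgroup.eq_of_le_of_card_ge
      · intro w hw
        refine ⟨hw.1, ?_⟩
        show w ∈ centralizer ({y} : Set G)
        rw [mem_centralizer_iff]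
        intro t ht
        rw [Set.mem_singleton_iff.mp ht]
        exact mem_centralizer_iff.mp hw.2 y hyP
      · rw [hZcard]
        apply le_of_dvd_sq_of_lt hp.out
        · rw [← hA.card]; exact Subgroup.card_dvd_of_le inf_le_left
        · rw [← hA.card]
          apply Helper24.card_lt_of_lt
          refine lt_of_le_of_ne inf_le_left ?_
          intro h
          apply hyCA
          rw [mem_centralizer_iff]
          intro b hb
          have : b ∈ A ⊓ centralizer ({y} : Set G) := by rw [h]; exact hb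
          exact (mem_centralizer_iff.mp this.2 y rfl).symm
    have hc1 : ⁅y, a⁆ ≠ 1 := by
      intro h
      apply haZ
      rw [← hCy]
      refine ⟨ha, ?_⟩
      show a ∈ centralizer ({y} : Set G)
      rw [mem_centralizer_iff]
      intro t ht
      rw [Set.mem_singleton_iff.mp ht]
      exact (commutatorElement_eq_one_iff_mul_comm.mp h)
    -- `A = A₀ Z₀`
    have hsup : A₀ ⊔ Z₀ = A := by
      apply Subgroup.eq_of_le_of_card_ge (sup_le hA₀A inf_le_left)
      rw [hA.card]
      apply le_of_eq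
      symm
      apply eq_sq_of_dvd_of_lt hp.out
      · rw [← hA.card]; exact Subgroup.card_dvd_of_le (sup_le hA₀A inf_le_left)
      · rw [← hA₀c]
        apply Helper24.card_lt_of_lt
        refine lt_of_le_of_ne le_sup_left ?_
        intro h
        have h1 : Z₀ ≤ A₀ := by rw [h]; exact le_sup_right
        exact hA₀Z (Subgroup.eq_of_le_of_card_ge h1 (by rw [hA₀c, hZcard])).symm
    have ha' : a ∈ A₀ ⊔ Z₀ := by rw [hsup]; exact ha
    obtain ⟨a₀, ha₀, z', hz', rfl⟩ := exists_mul_of_mem_sup_commuting (P₁ := A₀) (P₂ := Z₀)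
      (fun u hu v hv => hAcomm u (hA₀A hu) v (inf_le_left (a := A) hv)) ha'
    obtain ⟨k, hk⟩ := Helper23R.exists_pow_of_card_prime hp.out hZcard hc hc1 z'⁻¹ (Z₀.inv_mem hz')
    refine ⟨y ^ k, P.pow_mem hyP k, ?_⟩
    have h1 : y * (a₀ * z') * y⁻¹ = ⁅y, a₀ * z'⁆ * (a₀ * z') := Helper23R.conj_eq_comm_mul _ _
    have h2 : Commute ⁅y, a₀ * z'⁆ y := (mem_centralizer_iff.mp hc.2 y hyP).symm
    rw [Helper23R.conj_pow_left h1 h2 k, ← hk]
    have : z'⁻¹ * (a₀ * z') = a₀ := by
      rw [hAcomm a₀ (hA₀A ha₀) z' hz'.1]; group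
    rw [this]
    exact ha₀

theorem cj_eq_self_of_mem {M : Subgroup G} {m : G} (hm : m ∈ M) : cj m M = M :=
  map_conj_eq_self_of_mem hm

theorem exc_cj_mem {M A A₀ : Subgroup G} {p : ℕ} (h : Exc M p A A₀) {m : G} (hm : m ∈ M) :
    Exc M p (cj m A) (cj m A₀) where
  coatom := h.coatom
  notSigma := h.notSigma
  AM := by
    have := Helper24.cj_mono m h.AM
    rwa [cj_eq_self_of_mem hm] at this
  elem := by
    haveI := h.elem.1
    refine ⟨inferInstance, ?_⟩
    rintro _ ⟨a, ha, rfl⟩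
    show (m * a * m⁻¹) ^ p = 1
    rw [conj_pow, h.elem.2 a ha]; group
  card := by rw [card_map_conj]; exact h.card
  A₀A := Helper24.cj_mono m h.A₀A
  card₀ := by rw [card_map_conj]; exact h.card₀
  norm := by
    rw [normalizer_map_conj]
    have := Helper24.cj_mono m h.norm
    rwa [cj_eq_self_of_mem hm] at this

/-- BG 11.5 for a Sylow subgroup containing `A`. -/
theorem abelian_of_le [Finite G] (hG : IsMinSimpleOddOrder G) (hU : UT G) (hPL : PL1 G) (h12 : H1412 G)
    {M A A₀ : Subgroup G} {p : ℕ} [hp : Fact p.Prime] (h : Exc M p A A₀) {P : Subgroup G}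
    (hP : IsSylowIn p P M) (hAP : A ≤ P) : ∀ u ∈ P, ∀ v ∈ P, u * v = v * u := by
  by_contra hcon
  push Not at hcon
  have hA := h.e2 hG hU
  obtain ⟨Z₀, hZA, hZc, hZP, hZinv, htr⟩ := exists_Z₀ hG hA h12 hP.2.1 hAP hcon
  obtain ⟨g, hgN, hgM⟩ := h.exists_norm_not_mem hP
  have hM := h.coatom
  have hA₀Z : A₀ ≠ Z₀ := by
    intro he
    apply hgM
    apply h.norm
    rw [he]
    exact mem_normalizer_of_map_conj_eq (hZinv g hgN)
  have hcjP : cj g P = P := map_conj_eq_self_of_mem_normalizer hgN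
  have hAcjM : A ≤ cj g M := by
    calc A ≤ P := hAP
      _ = cj g P := hcjP.symm
      _ ≤ cj g M := Helper24.cj_mono g hP.1
  have hcjA : cj g A ≤ P := by
    calc cj g A ≤ cj g P := Helper24.cj_mono g hAP
      _ = P := hcjP
  -- Claim 1
  have hK : sigmaCore M ≤ centralizer (Z₀ : Set G) := by
    apply Helper22.le_of_forall_centralizer_le (p := p) (cj g A) (sigmaCore M) (centralizer (Z₀ : Set G))
    · rintro _ ⟨a, ha, rfl⟩ _ ⟨b, hb, rfl⟩
      have := hA.elem.1.is_comm.comm ⟨a, ha⟩ ⟨b, hb⟩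
      have e : a * b = b * a := congrArg Subtype.val this
      show (g * a * g⁻¹) * (g * b * g⁻¹) = (g * b * g⁻¹) * (g * a * g⁻¹)
      calc (g * a * g⁻¹) * (g * b * g⁻¹) = g * (a * b) * g⁻¹ := by group
        _ = g * (b * a) * g⁻¹ := by rw [e]
        _ = _ := by group
    · rintro _ ⟨a, ha, rfl⟩
      show (g * a * g⁻¹) ^ p = 1
      rw [conj_pow, hA.elem.2 a ha]; group
    · rw [card_map_conj, hA.card]
    · exact h.not_dvd_sc
    · exact (hcjA.trans hP.1).trans (sc_norm M)
    · rintro _ ⟨a, ha, rfl⟩ hb1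
      have hb1' : g * a * g⁻¹ ≠ 1 := hb1
      show sigmaCore M ⊓ centralizer {g * a * g⁻¹} ≤ centralizer (Z₀ : Set G)
      by_cases haZ : a ∈ Z₀
      · have hbZ : g * a * g⁻¹ ∈ Z₀ := by
          rw [← hZinv g hgN]; exact conj_mem_map_conj haZ
        rw [centralizer_eq_of_card_prime hp.out hZc hbZ hb1']
        exact inf_le_right
      · obtain ⟨x, hxP, hxa⟩ := htr A₀ h.A₀A h.card₀ hA₀Z a ha haZ
        have hxM : x ∈ M := hP.1 hxP
        have hg' : g * x⁻¹ ∉ M := by
          intro hh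
          apply hgM
          have := M.mul_mem hh hxM
          simpa using this
        have hAg' : A ≤ cj (g * x⁻¹) M := by
          rw [← Helper24.cj_cj, cj_eq_self_of_mem (M.inv_mem hxM)]
          exact hAcjM
        have hfpf := h.fpf_cj hG hU hPL hg' hAg'
        have hb : g * a * g⁻¹ ∈ cj (g * x⁻¹) A₀ := by
          have := conj_mem_map_conj (g := g * x⁻¹) hxa
          have e : g * x⁻¹ * (x * a * x⁻¹) * (g * x⁻¹)⁻¹ = g * a * g⁻¹ := by group
          rwa [e] at this
        have hc : Nat.card (cj (g * x⁻¹) A₀) = p := by rw [card_map_conj]; exact h.card₀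
        rw [centralizer_eq_of_card_prime hp.out hc hb hb1'] at hfpf
        rw [hfpf]
        exact bot_le
  have hK2 : cj g (sigmaCore M) ≤ centralizer (Z₀ : Set G) := by
    have h1 := Helper24.cj_mono g hK
    have h2 := centralizer_map_conj g Z₀
    have h3 : (Z₀.map (MulAut.conj g).toMonoidHom) = Z₀ := hZinv g hgN
    rw [h3] at h2
    rw [h2]
    exact h1
  -- a prime
  have hKne := sc_ne_bot hG hU hM
  have hcard : Nat.card (sigmaCore M) ≠ 1 := fun hh => hKne (Subgroup.card_eq_one.mp hh)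
  obtain ⟨q, hq, hqd⟩ := Nat.exists_prime_and_dvd hcard
  haveI : Fact q.Prime := ⟨hq⟩
  have hqs : q ∈ sigma M := sc_primes M hq hqd
  obtain ⟨Q₁, hQ₁, hAQ₁⟩ := exists_inv_sylow h.pg h.not_dvd_sc h.A_norm_sc q
  have hAn2 : A ≤ normalizer ((cj g (sigmaCore M) : Subgroup G) : Set G) := by
    rw [← sc_cj]
    exact hAcjM.trans (sc_norm _)
  have hnd2 : ¬ p ∣ Nat.card (cj g (sigmaCore M)) := by
    rw [card_map_conj]; exact h.not_dvd_sc
  obtain ⟨Q₂, hQ₂, hAQ₂⟩ := exists_inv_sylow h.pg hnd2 hAn2 q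
  have hQ₁M : IsSylowIn q Q₁ M := sc_sylow hG hU hM hqs hQ₁
  have hQ₂M : IsSylowIn q Q₂ (cj g M) := by
    apply sc_sylow hG hU (isCoatom_cj hM g) ((sigma_cj_iff g).mpr hqs)
    rw [sc_cj]; exact hQ₂
  have hZne : Z₀ ≠ ⊥ := by
    intro hh
    rw [hh, Subgroup.card_bot] at hZc
    exact hp.out.one_lt.ne hZc
  have hZtop : Z₀ ≠ ⊤ := by
    apply MS_isPGroup_ne_top hG (p := p)
    exact hA.pg.to_le hZA
  have hH : centralizer (Z₀ : Set G) ≠ ⊤ := by
    intro hh
    apply MS_normalizer_ne_top hG hZne hZtop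
    rw [eq_top_iff, ← hh]
    exact centralizer_le_normalizer' Z₀
  have hAH : A ≤ centralizer (Z₀ : Set G) :=
    hA.comm.trans (centralizer_le (show (Z₀ : Set G) ⊆ A from hZA))
  have h₁ : centralizer (Z₀ : Set G) ⊓ Q₁ ≠ ⊥ := by
    rw [inf_eq_right.mpr (hQ₁.1.trans hK)]
    exact sylow_ne_bot_of_dvd hQ₁ hqd
  have h₂ : centralizer (Z₀ : Set G) ⊓ Q₂ ≠ ⊥ := by
    rw [inf_eq_right.mpr (hQ₂.1.trans hK2)]
    exact sylow_ne_bot_of_dvd hQ₂ (by rw [card_map_conj]; exact hqd)
  exact h.no_common hG hU hPL hgM hqs hQ₁M hQ₂M hAQ₁ hAQ₂ hH hAH h₁ h₂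

/-- BG 11.5. -/
theorem excAbel [Finite G] (hG : IsMinSimpleOddOrder G) (hU : UT G) (hPL : PL1 G) (h12 : H1412 G) :
    ExcAbel G := by
  intro M p _ A A₀ h P
  have hP := Sylow.isSylowIn_map P
  obtain ⟨m, hm, hle⟩ := hP.exists_conj_le h.AM h.pg
  have h' := exc_cj_mem h hm
  have hab := abelian_of_le hG hU hPL h12 h' hP hle
  refine ⟨⟨?_⟩⟩
  rintro ⟨a, ha⟩ ⟨b, hb⟩
  apply Subtype.ext
  apply Subtype.ext
  exact hab a ⟨a, ha, rfl⟩ b ⟨b, hb, rfl⟩

end Cfsg.Agent.Lib.Helper49.BG11
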