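/-
Helper library (helper49): Bender–Glauberman Corollary 12.10 (row S1420), from the rows
S1415 (nilpotency of `E'`), S1416(a), S1417, S1418 given as hypotheses.
-/
import Cfsg.Agent.Lib.Helper9.BG12a
import Cfsg.Agent.Lib.Helper34.BG13a
import Cfsg.Agent.Lib.Helper25.FpfNilpotent

set_option autoImplicit false
set_option linter.unusedVariables false
set_option linter.unusedSimpArgs false
set_option linter.style.haveILetI false

namespace Cfsg.Agent.Lib.Helper49.BG12

open Subgroup Cfsg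
open Cfsg.Agent.Lib
open Cfsg.Agent.Lib.Helper24 Cfsg.Agent.Lib.Helper34
open Cfsg.Agent.Lib.Helper31.BG11 Cfsg.Agent.Lib.Helper34.BG13 Cfsg.Agent.Lib.Helper9.BG12

universe u

/-- a finite nilpotent group with abelian Sylow subgroups is abelian. -/
theorem isMulCommutative_of_nilpotent_of_sylow {N : Type*} [Group N] [Finite N]
    (hN : Group.IsNilpotent N)
    (h : ∀ (p : ℕ) [Fact p.Prime] (P : Sylow p N), IsMulCommutative (P : Subgroup N)) :
    IsMulCommutative N := by
  obtain ⟨e⟩ := ((Group.isNilpotent_of_finite_tfae (G := N)).out 0 4).mp hN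
  refine ⟨⟨fun a b => ?_⟩⟩
  obtain ⟨a', rfl⟩ := e.surjective a
  obtain ⟨b', rfl⟩ := e.surjective b
  rw [← map_mul, ← map_mul]
  congr 1
  funext p P
  haveI : Fact (p : ℕ).Prime := ⟨Nat.prime_of_mem_primeFactors p.2⟩
  exact (h p P).is_comm.comm _ _

variable {G : Type u} [Group G]

/-- A `q`-element normalizing an elementary abelian group of order `p ^ 2`, `p < q` odd,
centralizes it. -/
theorem le_centralizer_of_lt [Finite G] {p q : ℕ} [hp : Fact p.Prime] [hq : Fact q.Prime]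
    (hp2 : p ≠ 2) (hq2 : q ≠ 2) (hpq : p < q) {A : Subgroup G} (hcard : Nat.card A = p ^ 2)
    {u : G} {j : ℕ} (hu : u ^ q ^ j = 1) (huA : u ∈ normalizer (A : Set G)) :
    u ∈ centralizer (A : Set G) := by
  have h1 := Helper25.card_modEq_card_fixed_conj (A : Set G) q u j hu
    (fun t ht => (mem_normalizer_iff.mp huA t).mp ht)
  set C := A ⊓ centralizer ({u} : Set G) with hC
  have h2 : Nat.card {t : (A : Set G) // u * (t : G) * u⁻¹ = t} = Nat.card C := by
    refine Nat.card_congr ⟨fun t => ⟨t.1.1, t.1.2, ?_⟩, fun c => ⟨⟨c.1, c.2.1⟩, ?_⟩, ?_, ?_⟩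
    · show t.1.1 ∈ centralizer ({u} : Set G)
      rw [mem_centralizer_iff]
      intro w hw
      rw [Set.mem_singleton_iff] at hw
      subst hw
      have := t.2
      calc w * t.1.1 = (w * t.1.1 * w⁻¹) * w := by group
        _ = t.1.1 * w := by rw [this]
    · have := mem_centralizer_iff.mp c.2.2 u rfl
      show u * c.1 * u⁻¹ = c.1
      rw [this]; group
    · intro t; rfl
    · intro c; rfl
  rw [h2] at h1
  have h3 : Nat.card (A : Set G) = p ^ 2 := hcard
  rw [h3] at h1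
  have hdvd : Nat.card C ∣ p ^ 2 := by
    rw [← hcard]; exact card_dvd_of_le inf_le_left
  obtain ⟨i, hi, hCi⟩ := (Nat.dvd_prime_pow hp.out).mp hdvd
  have hp1 : 1 < p := hp.out.one_lt
  have hpodd : Odd p := hp.out.odd_of_ne_two hp2
  have hqodd : Odd q := hq.out.odd_of_ne_two hq2
  rw [hCi] at h1
  have hi' : i = 0 ∨ i = 1 ∨ i = 2 := by omega
  rcases hi' with rfl | rfl | rfl
  · exfalso
    rw [pow_zero] at h1
    have h4 : q ∣ p ^ 2 - 1 := (Nat.modEq_iff_dvd' (Nat.one_le_pow _ _ hp.out.pos)).mp h1.symm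
    have h5 : p ^ 2 - 1 = (p - 1) * (p + 1) := by
      obtain ⟨k, rfl⟩ : ∃ k, p = k + 1 := ⟨p - 1, by omega⟩
      simp only [Nat.add_sub_cancel]
      have : (k + 1) ^ 2 = k * (k + 1 + 1) + 1 := by ring
      rw [this, Nat.add_sub_cancel]
    rw [h5] at h4
    rcases (Nat.Prime.dvd_mul hq.out).mp h4 with h6 | h6
    · have := Nat.le_of_dvd (by omega) h6
      omega
    · have := Nat.le_of_dvd (by omega) h6
      have h7 : q = p + 1 := by omega
      rw [h7] at hqodd
      exact (Nat.not_odd_iff_even.mpr hpodd.add_one) hqodd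
  · exfalso
    rw [pow_one] at h1
    have hle : p ≤ p ^ 2 := by nlinarith
    have h4 : q ∣ p ^ 2 - p := (Nat.modEq_iff_dvd' hle).mp h1.symm
    have h5 : p ^ 2 - p = p * (p - 1) := by
      obtain ⟨k, rfl⟩ : ∃ k, p = k + 1 := ⟨p - 1, by omega⟩
      simp only [Nat.add_sub_cancel]
      have : (k + 1) ^ 2 = (k + 1) * k + (k + 1) := by ring
      rw [this, Nat.add_sub_cancel]
    rw [h5] at h4
    rcases (Nat.Prime.dvd_mul hq.out).mp h4 with h6 | h6
    · have := Nat.le_of_dvd (by omega) h6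
      omega
    · have := Nat.le_of_dvd (by omega) h6
      omega
  · have hCA : C = A := by
      apply eq_of_le_of_card_ge inf_le_left
      rw [hCi, hcard]
    rw [mem_centralizer_iff]
    intro a ha
    have : a ∈ C := by rw [hCA]; exact ha
    exact (mem_centralizer_iff.mp this.2 u rfl).symm

/-- elements of a Sylow `p`-subgroup of `M` commute, `p ∈ τ₂(M)`. -/
theorem tau2_sylow_comm [Finite G] (h17 : H1417 G) {M : Subgroup G} (hM : IsCoatom M) {p : ℕ}
    [hp : Fact p.Prime] (hpt : p ∈ tau2 M) {Q : Subgroup G} (hQ : IsSylowIn p Q M) :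
    ∀ a ∈ Q, ∀ b ∈ Q, a * b = b * a := by
  obtain ⟨A, hAM, hA, hAc⟩ := exists_elemAb_sq hpt.2.2.1 hpt.2.2.2
  have h := ((h17 M hM p hpt A ⟨hAM, hA, hAc⟩).2.1 hQ.toSylow).1
  rw [hQ.coe_toSylow] at h
  intro a ha b hb
  have := h.is_comm.comm ⟨⟨a, hQ.1 ha⟩, mem_subgroupOf.mpr ha⟩ ⟨⟨b, hQ.1 hb⟩, mem_subgroupOf.mpr hb⟩
  exact congrArg (fun t : ↥(Q.subgroupOf M) => ((t : M) : G)) this

/-- **BG 12.10(a)**. -/
theorem nilpotent_sigma'_comm [Finite G] (hG : IsMinSimpleOddOrder G) (hU : UT G) (h17 : H1417 G)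
    {M : Subgroup G} (hM : IsCoatom M) {N : Subgroup G} (hNM : N ≤ M) (hN : Group.IsNilpotent N)
    (hσ : ∀ p : ℕ, p.Prime → p ∣ Nat.card N → p ∉ sigma M) : IsMulCommutative N := by
  apply isMulCommutative_of_nilpotent_of_sylow hN
  intro s hs S
  set S' : Subgroup G := (S : Subgroup N).map N.subtype with hS'
  have hS'N : S' ≤ N := map_subtype_le _
  have hS'p : IsPGroup s S' := S.2.map _
  suffices hcomm : ∀ a ∈ S', ∀ b ∈ S', a * b = b * a by
    refine ⟨⟨fun a b => Subtype.ext (Subtype.ext ?_)⟩⟩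
    exact hcomm _ (mem_map_of_mem _ a.2) _ (mem_map_of_mem _ b.2)
  by_cases hd : s ∣ Nat.card N
  · have hsσ := hσ s hs.out hd
    have hr2 : PRankLE s 2 M := by
      by_contra h
      exact hsσ (alpha_subset_sigma hG hU hM ⟨hs.out, h⟩)
    by_cases hr1 : PRankLE s 1 M
    · have hcyc : IsCyclic S' := isCyclic_of_pRankLE_one (MS_prime_ne_two hG hd) hS'p
        (pRankLE_mono (hS'N.trans hNM) hr1)
      have hc := IsCyclic.isMulCommutative (α := S')
      intro a ha b hb
      exact congrArg Subtype.val (hc.is_comm.comm ⟨a, ha⟩ ⟨b, hb⟩)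
    · obtain ⟨Q, hQ, hle⟩ := exists_isSylowIn_ge (hS'N.trans hNM) hS'p
      intro a ha b hb
      exact tau2_sylow_comm h17 hM ⟨hs.out, hsσ, hr2, hr1⟩ hQ a (hle ha) b (hle hb)
  · have hbot : S' = ⊥ := by
      obtain ⟨k, hk⟩ := hS'p.exists_card_eq
      have hk0 : k = 0 := by
        by_contra h0
        apply hd
        have h1 : s ∣ Nat.card S' := by rw [hk]; exact dvd_pow_self s h0
        exact h1.trans (card_dvd_of_le hS'N)
      rw [hk0, pow_zero] at hk
      exact card_eq_one.mp hk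
    intro a ha b hb
    rw [hbot, mem_bot] at ha hb
    rw [ha, hb]

/-- `C_G(x) ≠ G` for `x ≠ 1`. -/
theorem centralizer_singleton_ne_top [Finite G] (hG : IsMinSimpleOddOrder G) {z : G} (hz1 : z ≠ 1) :
    centralizer ({z} : Set G) ≠ ⊤ := by
  intro htop
  have hzc : zpowers z ≤ center G := by
    rw [zpowers_le, mem_center_iff]
    intro g
    have : g ∈ centralizer ({z} : Set G) := by rw [htop]; exact mem_top g
    exact (mem_centralizer_iff.mp this z rfl).symm
  have hzn : (zpowers z).Normal := by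
    constructor
    intro n hn g
    have := mem_center_iff.mp (hzc hn) g
    have h2 : g * n * g⁻¹ = n := by rw [this]; group
    rwa [h2]
  haveI := MS_simple hG
  rcases hzn.eq_bot_or_eq_top with h | h
  · exact hz1 (zpowers_eq_bot.mp h)
  · apply MS_ne_top_of_solvable hG (H := zpowers z) _ h
    infer_instance

/-- **BG 12.10(d)**. -/
theorem cent_tau2_uniq [Finite G] (hG : IsMinSimpleOddOrder G) (hU : UT G) (h17 : H1417 G)
    (h18 : H1418 G) {M : Subgroup G} (hM : IsCoatom M) {x : G} (hxM : x ∈ M) (hx1 : x ≠ 1)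
    (hxt : ∀ p : ℕ, p.Prime → p ∣ orderOf x → p ∈ tau2 M) (hxs : x ∈ sigmaHat M) :
    centralizer ({x} : Set G) ≤ M ∧
      ∀ L : Subgroup G, IsCoatom L → centralizer ({x} : Set G) ≤ L → L = M := by
  obtain ⟨-, y, hyK, hy1, hxy⟩ := hxs
  obtain ⟨E, hE, hxE⟩ := exists_compl_ge hG hU hM (K := zpowers x) (zpowers_le.mpr hxM) (by
    intro r hr hd
    rw [Nat.card_zpowers] at hd
    exact (hxt r hr hd).2.1)
  have ho1 : orderOf x ≠ 1 := fun h => hx1 (orderOf_eq_one_iff.mp h)
  set p := (orderOf x).minFac with hp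
  have hpp : p.Prime := Nat.minFac_prime ho1
  haveI : Fact p.Prime := ⟨hpp⟩
  have hpd : p ∣ orderOf x := Nat.minFac_dvd _
  have hpt : p ∈ tau2 M := hxt p hpp hpd
  obtain ⟨A₀, hA₀M, hA₀, hA₀c⟩ := exists_elemAb_sq hpt.2.2.1 hpt.2.2.2
  obtain ⟨S, hS, -⟩ := exists_isSylowIn_ge (p := p) (L := E) (R := ⊥) bot_le IsPGroup.of_bot
  have hSM : IsSylowIn p S M := compl_sylow hE hpt.2.1 hS
  obtain ⟨n, hnM, hnS⟩ := hSM.exists_conj_le hA₀M (isPGroup_of_exponent hA₀.2)
  set A := cj n A₀ with hA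
  have hAE : A ≤ E := hnS.trans hS.1
  have hAc : Nat.card A = p ^ 2 := by rw [hA, card_map_conj, hA₀c]
  have hAel : IsElementaryAbelian p A := by
    have hE2 : E2 p A₀ := ⟨hA₀, hA₀c, fun B' hB' hle =>
      sigma'_rank2_max hG hU hM hpt.2.1 hA₀M hA₀ hA₀c hB' hle⟩
    exact (hE2.cj n).elem
  have hAM : A ≤ M := hAE.trans hE.1
  have hEA : E ≤ normalizer (A : Set G) := (h18 M hM E hE p hpt A ⟨hAE, hAel, hAc⟩).1.1
  have hoddx : ∀ r : ℕ, r ∣ orderOf x → r ≠ 2 := by
    intro r hr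
    apply MS_prime_ne_two hG (H := zpowers x)
    rwa [Nat.card_zpowers]
  -- `x` centralizes `A`
  have hxA : x ∈ centralizer (A : Set G) := by
    apply Helper25.mem_of_forall_primePow_mem _ _ x rfl
    intro u hu r k hr hk
    haveI : Fact r.Prime := ⟨hr⟩
    have huE : u ∈ E := hxE hu
    by_cases hk0 : k = 0
    · rw [hk0, pow_zero, orderOf_eq_one_iff] at hk
      rw [hk]; exact one_mem _
    have hrd : r ∣ orderOf x := by
      have h1 : r ∣ orderOf u := by rw [hk]; exact dvd_pow_self r hk0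
      exact h1.trans (orderOf_dvd_of_mem_zpowers hu)
    have hur : u ^ r ^ k = 1 := by rw [← hk]; exact pow_orderOf_eq_one u
    have hpr : p ≤ r := Nat.minFac_le_of_dvd hr.two_le hrd
    rcases hpr.lt_or_eq with hlt | heq
    · exact le_centralizer_of_lt (hoddx p hpd) (hoddx r hrd) hlt hAc hur (hEA huE)
    · subst heq
      have hup : IsPGroup p (zpowers u) := by
        rw [IsPGroup.iff_card, Nat.card_zpowers]
        exact ⟨k, hk⟩
      obtain ⟨S', hS', huS'⟩ := exists_isSylowIn_ge (zpowers_le.mpr huE) hup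
      obtain ⟨m, hmE, hmS⟩ := hS'.exists_conj_le hAE (isPGroup_of_exponent hAel.2)
      rw [map_conj_eq_self_of_mem_normalizer (hEA hmE)] at hmS
      have hc := tau2_sylow_comm h17 hM hpt (compl_sylow hE hpt.2.1 hS')
      rw [mem_centralizer_iff]
      intro a ha
      exact hc a (hmS ha) u (huS' (mem_zpowers u))
  have hAC : A ≤ centralizer ({x} : Set G) := by
    intro a ha
    rw [mem_centralizer_iff]
    intro w hw
    rw [Set.mem_singleton_iff] at hw
    subst hw
    exact (mem_centralizer_iff.mp hxA a ha).symm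
  have hyC : y ∈ centralizer ({x} : Set G) := by
    rw [mem_centralizer_iff]
    intro w hw
    rw [Set.mem_singleton_iff] at hw
    subst hw
    exact hxy
  have huniq : ∀ L : Subgroup G, IsCoatom L → centralizer ({x} : Set G) ≤ L → L = M := by
    intro L hL hCL
    by_contra hne
    have h := (h17 M hM p hpt A ⟨hAM, hAel, hAc⟩).2.2.2.2.1 L hL hne (hAC.trans hCL)
    have : y ∈ sigmaCore M ⊓ L := ⟨hyK, hCL hyC⟩
    rw [h, mem_bot] at this
    exact hy1 this
  refine ⟨?_, huniq⟩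
  obtain ⟨L, hL, hCL⟩ := exists_coatom_ge (centralizer_singleton_ne_top hG hx1)
  rw [← huniq L hL hCL]
  exact hCL

/-- **BG Corollary 12.10** (row S1420). -/
theorem cor_12_10 [Finite G] (hG : IsMinSimpleOddOrder G) (hU : UT G)
    (h15 : ∀ M : Subgroup G, IsCoatom M → ∀ E : Subgroup G, IsComplIn E (sigmaCore M) M →
      Group.IsNilpotent ↥⁅E, E⁆)
    (h16 : H1416a G) (h17 : H1417 G) (h18 : H1418 G)
    (M : Subgroup G) (hM : IsCoatom M) (E : Subgroup G) (hE : Cfsg.IsComplIn E (Cfsg.sigmaCore M) M) :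
    (∀ N : Subgroup G, N ≤ M → Group.IsNilpotent N → (∀ p : ℕ, p.Prime → p ∣ Nat.card N → p ∉ Cfsg.sigma M) → IsMulCommutative N) ∧
      IsMulCommutative ↥⁅E, E⁆ ∧
      (∀ (p : ℕ) (P : Subgroup G), p ∈ Cfsg.sigma M → IsPGroup p P → P ≤ M → ¬ IsCyclic P → Subgroup.normalizer (P : Set G) ≤ M) ∧
      ∀ x ∈ M, x ≠ 1 → (∀ p : ℕ, p.Prime → p ∣ orderOf x → p ∈ Cfsg.tau2 M) → x ∈ Cfsg.sigmaHat M →
        Subgroup.centralizer ({x} : Set G) ≤ M ∧ ∀ L : Subgroup G, IsCoatom L → Subgroup.centralizer ({x} : Set G) ≤ L → L = M := by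
  refine ⟨fun N hNM hN hσ => nilpotent_sigma'_comm hG hU h17 hM hNM hN hσ, ?_, ?_, ?_⟩
  · have hle : ⁅E, E⁆ ≤ E := commutator_le.mpr (fun a ha b hb =>
      mul_mem (mul_mem (mul_mem ha hb) (inv_mem ha)) (inv_mem hb))
    refine nilpotent_sigma'_comm hG hU h17 hM (hle.trans hE.1) (h15 M hM E hE) ?_
    intro p hp hd
    exact compl_not_sigma hG hU hM hE hp (hd.trans (card_dvd_of_le hle))
  · intro p P hp hP hPM hnc
    haveI : Fact p.Prime := ⟨hp.1⟩
    exact norm_noncyclic_sigma hG hU h16 hM hp hP hPM hnc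
  · intro x hxM hx1 hxt hxs
    exact cent_tau2_uniq hG hU h17 h18 hM hxM hx1 hxt hxs

end Cfsg.Agent.Lib.Helper49.BG12
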