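/-
Helper library (helper49): easy consequences of Bender–Glauberman Proposition 14.2 (row S1430),
taken as a hypothesis `H1430 G`.
-/
import Cfsg.Agent.Lib.Helper49.BG14a
import Cfsg.Agent.Lib.Helper49.BG11Abel
import Cfsg.Agent.Lib.Helper9.BG12g
import Cfsg.Agent.Lib.Helper9.BG12h
import Cfsg.Agent.Lib.Helper62.HallCoprime

set_option autoImplicit false
set_option linter.unusedVariables false
set_option linter.style.haveILetI false

namespace Cfsg.Agent.Lib.Helper49.BG14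

open Subgroup Cfsg
open Cfsg.Agent.Lib
open Cfsg.Agent.Lib.Helper24 Cfsg.Agent.Lib.Helper34
open Cfsg.Agent.Lib.Helper31.BG11 Cfsg.Agent.Lib.Helper9.BG12

universe u

variable {G : Type u} [Group G]

/-- `K* = C_{M_σ}(K)`. -/
abbrev Ks (M K : Subgroup G) : Subgroup G := sigmaCore M ⊓ centralizer (K : Set G)

/-- The statement of row S1430. -/
def H1430 (G : Type u) [Group G] : Prop :=
  ∀ (M : Subgroup G) (_ : IsCoatom M) (K : Subgroup G) (_ : IsPiHallOf (kappa M) K M) (_ : K ≠ ⊥),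
    (∀ k ∈ K, k ≠ 1 → sigmaCore M ⊓ centralizer ({k} : Set G) = (sigmaCore M ⊓ centralizer (K : Set G))) ∧
      (∃ U : Subgroup G, IsMulCommutative U ∧ IsPiHallOf {q | q.Prime ∧ q ∉ kappa M ∧ q ∉ sigma M} U M ∧
        K ≤ normalizer (U : Set G) ∧ ∀ k ∈ K, k ≠ 1 → U ⊓ centralizer ({k} : Set G) = ⊥) ∧
      ∀ X : Subgroup G, X ≤ K → (Nat.card X).Prime →
        M ⊓ normalizer (X : Set G) = K ⊔ (sigmaCore M ⊓ centralizer (K : Set G)) ∧ M ⊓ normalizer (K : Set G) = K ⊔ (sigmaCore M ⊓ centralizer (K : Set G)) ∧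
        ∀ Mstar : Subgroup G, IsCoatom Mstar → normalizer (X : Set G) ≤ Mstar → X ≤ sigmaCore Mstar

/-- `K* ≠ 1` for a nontrivial Hall `κ(M)`-subgroup. -/
theorem Ks_ne_bot [Finite G] (hG : IsMinSimpleOddOrder G) (h30 : H1430 G) {M K : Subgroup G}
    (hM : IsCoatom M) (hK : IsPiHallOf (kappa M) K M) (hK1 : K ≠ ⊥) : Ks M K ≠ ⊥ := by
  obtain ⟨ha1, -, -⟩ := h30 M hM K hK hK1
  have hc1 : Nat.card K ≠ 1 := by
    intro h
    exact hK1 ((Subgroup.card_eq_one).mp h)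
  obtain ⟨p, hp, hpd⟩ := Nat.exists_prime_and_dvd hc1
  haveI : Fact p.Prime := ⟨hp⟩
  have hκ : p ∈ kappa M := hK.2.1 p hp hpd
  obtain ⟨-, x, hxP, hx1, y, hy, hy1, hxy⟩ := hκ.2.2.2 (default : Sylow p M)
  have hsol : Group.IsSolvable M := MS_solvable hG hM.1
  have hYp : IsPGroup p (zpowers (x : G)) := by
    have h1 : IsPGroup p ((default : Sylow p M) : Subgroup M) := (default : Sylow p M).isPGroup'
    obtain ⟨j, hj⟩ := h1 ⟨x, hxP⟩
    have hj' : (x : G) ^ p ^ j = 1 := by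
      have := congrArg (fun t : ((default : Sylow p M) : Subgroup M) => ((t : M) : G)) hj
      simpa using this
    rw [IsPGroup.iff_card]
    rw [Nat.card_zpowers]
    exact (Nat.dvd_prime_pow hp).mp (orderOf_dvd_of_pow_eq_one hj') |>.imp fun _ h => h.2
  obtain ⟨n, hn⟩ := IsPGroup.iff_card.mp hYp
  obtain ⟨l, hl, hlK⟩ := hall_conj_into (L := M) (D := K) (Y := zpowers (x : G)) hsol hK.1
    (by rw [zpowers_le]; exact x.2) (m := Nat.card K) (n := K.relIndex M)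
    (by
      have := Subgroup.relIndex_mul_relIndex ⊥ K M bot_le hK.1
      rw [Subgroup.relIndex_bot_left, Subgroup.relIndex_bot_left] at this
      exact this.symm)
    (Helper62.IsPiHallOf.coprime hK) dvd_rfl
    (by
      rw [hn]
      exact Nat.Coprime.pow_left _ ((Nat.Prime.coprime_iff_not_dvd hp).mpr (hK.2.2 p hp hκ)))
  have hk : l * (x : G) * l⁻¹ ∈ K := hlK ⟨(x : G), mem_zpowers _, rfl⟩
  have hk1 : l * (x : G) * l⁻¹ ≠ 1 := by
    intro h
    apply hx1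
    have : (x : G) = 1 := by
      have h2 := congrArg (fun t => l⁻¹ * t * l) h
      simpa [mul_assoc] using h2
    exact Subtype.ext this
  have hy' : l * y * l⁻¹ ∈ sigmaCore M := (mem_normalizer_iff.mp (sc_norm M hl) y).mp hy
  have hy'1 : l * y * l⁻¹ ≠ 1 := by
    intro h
    apply hy1
    have h2 := congrArg (fun t => l⁻¹ * t * l) h
    simpa [mul_assoc] using h2
  intro hbot
  have hmem : l * y * l⁻¹ ∈ sigmaCore M ⊓ centralizer ({l * (x : G) * l⁻¹} : Set G) := by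
    refine ⟨hy', ?_⟩
    show l * y * l⁻¹ ∈ centralizer ({l * (x : G) * l⁻¹} : Set G)
    rw [mem_centralizer_iff]
    intro w hw
    rw [Set.mem_singleton_iff] at hw
    subst hw
    calc l * (x : G) * l⁻¹ * (l * y * l⁻¹) = l * ((x : G) * y) * l⁻¹ := by group
      _ = l * (y * (x : G)) * l⁻¹ := by rw [hxy]
      _ = l * y * l⁻¹ * (l * (x : G) * l⁻¹) := by group
  rw [ha1 _ hk hk1] at hmem
  have : l * y * l⁻¹ ∈ Ks M K := hmem
  rw [hbot, mem_bot] at this
  exact hy'1 this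

/-- `C_M(k) ≤ K K*` for `k ∈ K#`. -/
theorem cent_le [Finite G] (h30 : H1430 G) {M K : Subgroup G}
    (hM : IsCoatom M) (hK : IsPiHallOf (kappa M) K M) {k : G} (hk : k ∈ K) (hk1 : k ≠ 1) :
    M ⊓ centralizer ({k} : Set G) ≤ K ⊔ Ks M K := by
  have hK1 : K ≠ ⊥ := by
    intro h
    rw [h, Subgroup.mem_bot] at hk
    exact hk1 hk
  obtain ⟨-, -, h3⟩ := h30 M hM K hK hK1
  obtain ⟨X, hXk, hXp⟩ := BG14a.exists_prime_le_zpowers hk1
  have hXK : X ≤ K := hXk.trans (by rwa [Subgroup.zpowers_le])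
  obtain ⟨hN, -, -⟩ := h3 X hXK hXp
  intro u hu
  have huN : u ∈ M ⊓ normalizer (X : Set G) :=
    ⟨hu.1, BG14a.mem_normalizer_of_centralizes hXk hu.2⟩
  rw [hN] at huN
  exact huN

end Cfsg.Agent.Lib.Helper49.BG14
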