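/-
Helper library (helper49): the standard factorisation `M = K U M_σ` from row S1430.
-/
import Cfsg.Agent.Lib.Helper49.BG14b
import Cfsg.Agent.Lib.Helper34.BG16a
import Cfsg.Agent.Lib.Helper1.Tools
import Cfsg.Agent.Lib.Helper31.BG11c

set_option autoImplicit false
set_option linter.unusedVariables false
set_option linter.style.haveILetI false

namespace Cfsg.Agent.Lib.Helper49.BG14

open Subgroup Cfsg
open Cfsg.Agent.Lib
open Cfsg.Agent.Lib.Helper24 Cfsg.Agent.Lib.Helper34
open Cfsg.Agent.Lib.Helper31.BG11 Cfsg.Agent.Lib.Helper9.BG12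

universe u

theorem three_hall_card {a b c a' b' c' m : ℕ} (hm : 0 < m) (ha : m = a * a') (hb : m = b * b')
    (hc : m = c * c') (hab : a.Coprime b) (hac : a.Coprime c) (hbc : b.Coprime c)
    (h : ∀ r, r.Prime → r ∣ m → ¬ r ∣ a' ∨ ¬ r ∣ b' ∨ ¬ r ∣ c') : a * b * c = m := by
  have h1 : a * b ∣ m := Nat.Coprime.mul_dvd_of_dvd_of_dvd hab ⟨a', ha⟩ ⟨b', hb⟩
  have h2 : a * b * c ∣ m :=
    Nat.Coprime.mul_dvd_of_dvd_of_dvd (Nat.Coprime.mul_left hac hbc) h1 ⟨c', hc⟩
  obtain ⟨t, ht⟩ := h2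
  have ha0 : 0 < a := Nat.pos_of_ne_zero (by rintro rfl; simp at ha; omega)
  have hb0 : 0 < b := Nat.pos_of_ne_zero (by rintro rfl; simp at hb; omega)
  have hc0 : 0 < c := Nat.pos_of_ne_zero (by rintro rfl; simp at hc; omega)
  by_cases ht1 : t = 1
  · rw [ht, ht1, mul_one]
  · exfalso
    obtain ⟨r, hr, hrt⟩ := Nat.exists_prime_and_dvd ht1
    have ea : a' = b * c * t := by
      apply Nat.eq_of_mul_eq_mul_left ha0
      rw [← ha, ht]; ring
    have eb : b' = a * c * t := by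
      apply Nat.eq_of_mul_eq_mul_left hb0
      rw [← hb, ht]; ring
    have ec : c' = a * b * t := by
      apply Nat.eq_of_mul_eq_mul_left hc0
      rw [← hc, ht]; ring
    rcases h r hr (by rw [ht]; exact Dvd.dvd.mul_left hrt _) with h | h | h
    · exact h (by rw [ea]; exact Dvd.dvd.mul_left hrt _)
    · exact h (by rw [eb]; exact Dvd.dvd.mul_left hrt _)
    · exact h (by rw [ec]; exact Dvd.dvd.mul_left hrt _)

variable {G : Type u} [Group G]

theorem card_eq_mul_relIndex {H K : Subgroup G} (h : H ≤ K) :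
    Nat.card K = Nat.card H * H.relIndex K := by
  have := Subgroup.relIndex_mul_relIndex ⊥ H K bot_le h
  rw [Subgroup.relIndex_bot_left, Subgroup.relIndex_bot_left] at this
  exact this.symm

/-- A Hall subgroup for the primes outside `κ(M) ∪ σ(M)` complements `K M_σ`. -/
theorem isComplIn_of_hall [Finite G] (hG : IsMinSimpleOddOrder G) (hU : UT G) {M K U : Subgroup G}
    (hM : IsCoatom M) (hK : IsPiHallOf (kappa M) K M)
    (hUh : IsPiHallOf {q | q.Prime ∧ q ∉ kappa M ∧ q ∉ sigma M} U M) :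
    IsComplIn U (K ⊔ sigmaCore M) M := by
  have hσ := sc_hall hG hU hM
  have hKσ : (Nat.card K).Coprime (Nat.card (sigmaCore M)) := by
    apply Nat.coprime_of_dvd
    intro r hr h1 h2
    exact (hK.2.1 r hr h1).2.2.1 (hσ.2.1 r hr h2)
  have hUK : (Nat.card U).Coprime (Nat.card K) := by
    apply Nat.coprime_of_dvd
    intro r hr h1 h2
    exact (hUh.2.1 r hr h1).2.1 (hK.2.1 r hr h2)
  have hUσ : (Nat.card U).Coprime (Nat.card (sigmaCore M)) := by
    apply Nat.coprime_of_dvd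
    intro r hr h1 h2
    exact (hUh.2.1 r hr h1).2.2 (hσ.2.1 r hr h2)
  have hsup : Nat.card (K ⊔ sigmaCore M : Subgroup G) = Nat.card K * Nat.card (sigmaCore M) :=
    Helper1.card_sup_of_disjoint (hK.1.trans (sc_norm M))
      (Subgroup.disjoint_of_coprime_natCard hKσ)
  have hcard : Nat.card U * Nat.card K * Nat.card (sigmaCore M) = Nat.card M := by
    apply three_hall_card Nat.card_pos (card_eq_mul_relIndex hUh.1) (card_eq_mul_relIndex hK.1)
      (card_eq_mul_relIndex hσ.1) hUK hUσ hKσ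
    intro r hr _
    by_cases h1 : r ∈ kappa M
    · exact Or.inr (Or.inl (hK.2.2 r hr h1))
    · by_cases h2 : r ∈ sigma M
      · exact Or.inr (Or.inr (hσ.2.2 r hr h2))
      · exact Or.inl (hUh.2.2 r hr ⟨hr, h1, h2⟩)
  apply BG13.isComplIn_of_card hUh.1 (sup_le hK.1 (sc_le M))
  · rw [hsup]
    exact Nat.Coprime.mul_right hUK hUσ
  · rw [hsup, ← mul_assoc]
    exact hcard

/-- `M` normalizes `U M_σ` for every standard factorisation. -/
theorem le_normalizer_sup_sc [Finite G] {M K U : Subgroup G} (hKU : IsSigmaDecomposition M K U) :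
    M ≤ normalizer ((U ⊔ sigmaCore M : Subgroup G) : Set G) := by
  have h1 : U ⊔ sigmaCore M ≤ normalizer ((U ⊔ sigmaCore M : Subgroup G) : Set G) :=
    Subgroup.le_normalizer
  have h2 : K ≤ normalizer ((U ⊔ sigmaCore M : Subgroup G) : Set G) :=
    le_normalizer_sup' hKU.normal (hKU.hall.1.trans (sc_norm M))
  intro m hm
  obtain ⟨a, ha, b, hb, rfl⟩ := hKU.compl.2.2.2 m hm
  apply Subgroup.mul_mem
  · exact h1 (le_sup_left (a := U) ha)
  · exact (sup_le h2 (le_sup_right.trans h1)) hb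

/-- Existence of the standard factorisation. -/
theorem exists_decomp [Finite G] (hG : IsMinSimpleOddOrder G) (hU : UT G) (h30 : H1430 G)
    {M K : Subgroup G} (hM : IsCoatom M) (hKc : IsCyclic K) (hK : IsPiHallOf (kappa M) K M) :
    ∃ U : Subgroup G, IsSigmaDecomposition M K U := by
  by_cases hK1 : K = ⊥
  · obtain ⟨E, hE⟩ := BG16.exists_compl hG hU hM
    refine ⟨E, hKc, hK, ?_, ?_⟩
    · rw [hK1, bot_sup_eq]; exact hE
    · rw [hK1]; exact bot_le
  · obtain ⟨-, ⟨U, -, hUh, hKU, -⟩, -⟩ := h30 M hM K hK hK1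
    exact ⟨U, hKc, hK, isComplIn_of_hall hG hU hM hK hUh, hKU⟩

end Cfsg.Agent.Lib.Helper49.BG14
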