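/-
Helper library (helper49): the abstract "polygon" counting argument of Bender–Glauberman
Theorem 14.7 (pure finite group theory, no BG vocabulary).
-/
import Mathlib

set_option autoImplicit false
set_option linter.style.haveILetI false

namespace Cfsg.Agent.Lib.Helper49.BG147Count

open Subgroup

variable {G : Type*} [Group G] [Finite G]

/-- (C) If `g z g⁻¹ ∈ T`, `z ∈ T` forces `g ∈ Z`, the set of conjugates of `T` is large. -/
theorem card_mul_le_of_TI (Z : Subgroup G) (T : Set G)
    (hTI : ∀ z ∈ T, ∀ g : G, g * z * g⁻¹ ∈ T → g ∈ Z) :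
    T.ncard * Nat.card G ≤ Nat.card Z * Set.ncard {a : G | ∃ g : G, ∃ z ∈ T, a = g * z * g⁻¹} := by
  classical
  haveI : Fintype G := Fintype.ofFinite G
  set s : Finset (G × G) := (Finset.univ : Finset G) ×ˢ T.toFinset with hs
  set f : G × G → G := fun x => x.1 * x.2 * x.1⁻¹ with hf
  have himg : (s.image f : Set G) = {a : G | ∃ g : G, ∃ z ∈ T, a = g * z * g⁻¹} := by
    ext a
    simp only [Finset.coe_image, Set.mem_image, Finset.mem_coe, Set.mem_ofPred_eq, hs,
      Finset.mem_product, Finset.mem_univ, true_and, Set.mem_toFinset, Prod.exists, hf]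
    constructor
    · rintro ⟨g, z, hz, rfl⟩
      exact ⟨g, z, hz, rfl⟩
    · rintro ⟨g, z, hz, rfl⟩
      exact ⟨g, z, hz, rfl⟩
  have hn : ∀ a ∈ s.image f, (s.filter (fun x => f x = a)).card ≤ Nat.card Z := by
    intro a ha
    obtain ⟨⟨g₀, z₀⟩, hx₀, rfl⟩ := Finset.mem_image.mp ha
    have hz₀ : z₀ ∈ T := by
      simpa [hs] using hx₀
    have hZc : Nat.card Z = ((Z : Set G).toFinset).card := by
      rw [Set.toFinset_card, Nat.card_eq_fintype_card]
      rfl
    rw [hZc]
    apply Finset.card_le_card_of_injOn (fun x => x.1⁻¹ * g₀)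
    · intro x hx
      have hx' := Finset.mem_filter.mp hx
      have hxT : x.2 ∈ T := by
        have := hx'.1
        simpa [hs] using this
      have hfx : x.1 * x.2 * x.1⁻¹ = g₀ * z₀ * g₀⁻¹ := hx'.2
      have : (x.1⁻¹ * g₀) * z₀ * (x.1⁻¹ * g₀)⁻¹ = x.2 := by
        calc (x.1⁻¹ * g₀) * z₀ * (x.1⁻¹ * g₀)⁻¹ = x.1⁻¹ * (g₀ * z₀ * g₀⁻¹) * x.1 := by group
          _ = x.1⁻¹ * (x.1 * x.2 * x.1⁻¹) * x.1 := by rw [hfx]
          _ = x.2 := by group
      have hmem := hTI z₀ hz₀ (x.1⁻¹ * g₀) (by rw [this]; exact hxT)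
      simpa using hmem
    · intro x hx y hy hxy
      have hx' := (Finset.mem_filter.mp hx).2
      have hy' := (Finset.mem_filter.mp hy).2
      have h1 : x.1 = y.1 := by
        have : x.1⁻¹ = y.1⁻¹ := mul_right_cancel hxy
        exact inv_injective this
      have hfx : x.1 * x.2 * x.1⁻¹ = y.1 * y.2 * y.1⁻¹ := hx'.trans hy'.symm
      rw [h1] at hfx
      have h2 : x.2 = y.2 := by
        have := mul_right_cancel hfx
        exact mul_left_cancel this
      exact Prod.ext h1 h2
  have h := Finset.card_le_mul_card_image s (Nat.card Z) hn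
  have hsc : s.card = Nat.card G * T.ncard := by
    rw [hs, Finset.card_product, Finset.card_univ, Nat.card_eq_fintype_card,
      Set.ncard_eq_toFinset_card']
  have hic : (s.image f).card = Set.ncard {a : G | ∃ g : G, ∃ z ∈ T, a = g * z * g⁻¹} := by
    rw [← himg, Set.ncard_coe_finset]
  rw [hsc, hic] at h
  rw [mul_comm]
  exact h

/-- arithmetic: `|Z| |M̃| ≥ a |G| - |G| / 3` for a maximal subgroup of type `P₁`. -/
theorem tilde_bound {s k a idx g z t : ℕ} (hg : g = idx * (s * k)) (hz : z = k * a)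
    (ht : t = (s - 1) * idx) (hs : 3 * a ≤ s) : (3 * a - 1) * g ≤ 3 * z * t := by
  subst hg hz ht
  rcases Nat.eq_zero_or_pos a with rfl | ha
  · simp
  · obtain ⟨b, hb⟩ : ∃ b, 3 * a = b + 1 := ⟨3 * a - 1, by omega⟩
    obtain ⟨s', rfl⟩ : ∃ s', s = s' + 1 := ⟨s - 1, by omega⟩
    have h1 : 3 * a - 1 = b := by omega
    have h2 : s' + 1 - 1 = s' := by omega
    rw [h1, h2]
    have h3 : b * (s' + 1) ≤ (b + 1) * s' := by nlinarith
    calc b * (idx * ((s' + 1) * k)) = (b * (s' + 1)) * (idx * k) := by ring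
      _ ≤ ((b + 1) * s') * (idx * k) := Nat.mul_le_mul_right _ h3
      _ = 3 * a * s' * (idx * k) := by rw [hb]
      _ = 3 * (k * a) * (s' * idx) := by ring

theorem polygon {ι : Type*} (I : Finset ι) (hI : 2 ≤ I.card) (Z : Subgroup G)
    (A : ι → Subgroup G) (B : ι → Set G)
    (hTI : ∀ z ∈ Z, (∀ i ∈ I, z ∉ A i) → ∀ g : G, g * z * g⁻¹ ∈ Z → g ∈ Z)
    (hB1 : ∀ i ∈ I, (1 : G) ∉ B i)
    (hBB : ∀ i ∈ I, ∀ j ∈ I, i ≠ j → Disjoint (B i) (B j))
    (hBT : ∀ i ∈ I, ∀ z ∈ Z, (∀ j ∈ I, z ∉ A j) → ∀ g : G, g * z * g⁻¹ ∉ B i)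
    (hcard : ∀ i ∈ I, (3 * Nat.card (A i) - 1) * Nat.card G ≤ 3 * Nat.card Z * (B i).ncard) :
    False := by
  classical
  haveI : Fintype G := Fintype.ofFinite G
  obtain ⟨i₀, hi₀⟩ : I.Nonempty := Finset.card_pos.mp (by omega)
  set T : Set G := {z | z ∈ Z ∧ ∀ i ∈ I, z ∉ A i} with hT
  set C : Set G := {a : G | ∃ g : G, ∃ z ∈ T, a = g * z * g⁻¹} with hC
  have h1 : T.ncard * Nat.card G ≤ Nat.card Z * C.ncard :=
    card_mul_le_of_TI Z T (fun z hz g hg => hTI z hz.1 hz.2 g hg.1)
  -- union bound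
  have h2 : Nat.card Z ≤ T.ncard + 1 + ∑ i ∈ I, (Nat.card (A i) - 1) := by
    have hsub : (Z : Set G).toFinset ⊆
        (T.toFinset ∪ {1}) ∪ I.biUnion (fun i => ((A i : Set G) \ {1}).toFinset) := by
      intro z hz
      have hzZ : z ∈ Z := by simpa using hz
      by_cases hzT : z ∈ T
      · exact Finset.mem_union_left _ (Finset.mem_union_left _ (by simpa using hzT))
      · by_cases hz1 : z = 1
        · exact Finset.mem_union_left _ (Finset.mem_union_right _ (by simp [hz1]))
        · apply Finset.mem_union_right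
          have : ∃ i ∈ I, z ∈ A i := by
            by_contra hcon
            push Not at hcon
            exact hzT ⟨hzZ, hcon⟩
          obtain ⟨i, hi, hzi⟩ := this
          rw [Finset.mem_biUnion]
          exact ⟨i, hi, by simp [hzi, hz1]⟩
    have hc := Finset.card_le_card hsub
    have hZc : ((Z : Set G).toFinset).card = Nat.card Z := by
      rw [Set.toFinset_card, Nat.card_eq_fintype_card]
      rfl
    have hAc : ∀ i, (((A i : Set G) \ {1}).toFinset).card = Nat.card (A i) - 1 := by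
      intro i
      rw [← Set.ncard_eq_toFinset_card', Set.ncard_sdiff_singleton_of_mem (A i).one_mem]
      congr 1
    calc Nat.card Z = ((Z : Set G).toFinset).card := hZc.symm
      _ ≤ _ := hc
      _ ≤ (T.toFinset ∪ {1}).card + (I.biUnion (fun i => ((A i : Set G) \ {1}).toFinset)).card :=
          Finset.card_union_le _ _
      _ ≤ (T.toFinset.card + 1) + ∑ i ∈ I, (((A i : Set G) \ {1}).toFinset).card := by
          apply Nat.add_le_add
          · exact (Finset.card_union_le _ _).trans (by simp)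
          · exact Finset.card_biUnion_le
      _ = T.ncard + 1 + ∑ i ∈ I, (Nat.card (A i) - 1) := by
          rw [Set.ncard_eq_toFinset_card']
          congr 1
          exact Finset.sum_congr rfl (fun i _ => hAc i)
  -- disjoint union
  have h3 : C.ncard + ∑ i ∈ I, (B i).ncard + 1 ≤ Nat.card G := by
    have hd1 : (I : Set ι).PairwiseDisjoint (fun i => (B i).toFinset) := by
      intro i hi j hj hij
      have := hBB i hi j hj hij
      show Disjoint (B i).toFinset (B j).toFinset
      rw [Set.disjoint_toFinset]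
      exact this
    have hcb : (I.biUnion (fun i => (B i).toFinset)).card = ∑ i ∈ I, (B i).ncard := by
      rw [Finset.card_biUnion hd1]
      exact Finset.sum_congr rfl (fun i _ => (Set.ncard_eq_toFinset_card' _).symm)
    have hd2 : Disjoint C.toFinset (I.biUnion (fun i => (B i).toFinset)) := by
      rw [Finset.disjoint_left]
      intro a ha hb
      have haC : a ∈ C := by simpa using ha
      obtain ⟨g, z, hz, rfl⟩ := haC
      obtain ⟨i, hi, hb'⟩ := Finset.mem_biUnion.mp hb
      exact hBT i hi z hz.1 hz.2 g (by simpa using hb')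
    have hd3 : Disjoint (C.toFinset ∪ I.biUnion (fun i => (B i).toFinset)) {(1 : G)} := by
      rw [Finset.disjoint_singleton_right, Finset.mem_union]
      rintro (h | h)
      · have haC : (1 : G) ∈ C := by simpa using h
        obtain ⟨g, z, hz, h1⟩ := haC
        have hz1 : z = 1 := by
          have := congrArg (fun t => g⁻¹ * t * g) h1
          simpa [mul_assoc] using this.symm
        exact hz.2 i₀ hi₀ (hz1 ▸ (A i₀).one_mem)
      · obtain ⟨i, hi, hb'⟩ := Finset.mem_biUnion.mp h
        exact hB1 i hi (by simpa using hb')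
    have := Finset.card_le_univ ((C.toFinset ∪ I.biUnion (fun i => (B i).toFinset)) ∪ {(1 : G)})
    rw [Finset.card_union_of_disjoint hd3, Finset.card_union_of_disjoint hd2, hcb,
      Finset.card_singleton, ← Set.ncard_eq_toFinset_card', ← Nat.card_eq_fintype_card] at this
    exact this
  -- sums
  have hpos : ∀ i, 1 ≤ Nat.card (A i) := fun i => Nat.card_pos
  have h4 : ∑ i ∈ I, (Nat.card (A i) - 1) + I.card = ∑ i ∈ I, Nat.card (A i) := by
    rw [Finset.card_eq_sum_ones, ← Finset.sum_add_distrib]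
    exact Finset.sum_congr rfl (fun i _ => by have := hpos i; omega)
  have h5 : ∑ i ∈ I, (3 * Nat.card (A i) - 1) + I.card = 3 * ∑ i ∈ I, Nat.card (A i) := by
    rw [Finset.card_eq_sum_ones, ← Finset.sum_add_distrib, Finset.mul_sum]
    exact Finset.sum_congr rfl (fun i _ => by have := hpos i; omega)
  have h6 : (∑ i ∈ I, (3 * Nat.card (A i) - 1)) * Nat.card G
      ≤ 3 * Nat.card Z * ∑ i ∈ I, (B i).ncard := by
    rw [Finset.sum_mul, Finset.mul_sum]
    exact Finset.sum_le_sum hcard
  have hg : 0 < Nat.card G := Nat.card_pos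
  have hz : 0 < Nat.card Z := Nat.card_pos
  have h7 : (3 * T.ncard + ∑ i ∈ I, (3 * Nat.card (A i) - 1)) * Nat.card G
      < 3 * Nat.card Z * Nat.card G := by
    calc (3 * T.ncard + ∑ i ∈ I, (3 * Nat.card (A i) - 1)) * Nat.card G
        = 3 * (T.ncard * Nat.card G) + (∑ i ∈ I, (3 * Nat.card (A i) - 1)) * Nat.card G := by ring
      _ ≤ 3 * (Nat.card Z * C.ncard) + 3 * Nat.card Z * ∑ i ∈ I, (B i).ncard :=
          Nat.add_le_add (Nat.mul_le_mul_left _ h1) h6
      _ = 3 * Nat.card Z * (C.ncard + ∑ i ∈ I, (B i).ncard) := by ring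
      _ < 3 * Nat.card Z * Nat.card G := by
          apply Nat.mul_lt_mul_of_pos_left _ (by omega)
          omega
  have h8 := Nat.lt_of_mul_lt_mul_right h7
  omega

end Cfsg.Agent.Lib.Helper49.BG147Count
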