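/-
Helper library (helper49): Bender-Glauberman 15.7 for `K ≠ 1`, `U = 1`, `M_F = M_σ` not a TI-subset.
-/
import Cfsg.Agent.Lib.Helper68.BG157b
import Cfsg.Agent.Lib.Helper26.BGTypesA
import Cfsg.Agent.Lib.Helper24.BG10c
import Cfsg.Agent.Lib.Helper49.P1.Nil
import Cfsg.Agent.Lib.Helper49.P1.Main
import Cfsg.Agent.S1373
import Cfsg.Agent.S1419
import Cfsg.Agent.S1430
import Cfsg.Agent.S1431

set_option autoImplicit false
set_option linter.unusedSimpArgs false
set_option linter.unusedVariables false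
set_option linter.style.haveILetI false
set_option linter.unusedSectionVars false

namespace Cfsg.Agent.Lib.Helper49.BG157

open Subgroup Cfsg
open Cfsg.Agent.Lib
open Cfsg.Agent.Lib.Helper24 Cfsg.Agent.Lib.Helper34 Cfsg.Agent.Lib.Helper31.BG11
open Cfsg.Agent.Lib.Helper34.BG13 Cfsg.Agent.Lib.Helper34.BG16 Cfsg.Agent.Lib.Helper10.BG124
open Cfsg.Agent.Lib.Helper20.BG14 Cfsg.Agent.Lib.Helper68.BG157 Cfsg.Agent.Lib.Helper49.P1

universe u

variable {G : Type u} [Group G] [Finite G] {M K U : Subgroup G}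

/-- Step 1: an element of prime order of `M_σ` whose centralizer is not in `M`. -/
theorem exists_bad (hG : IsMinSimpleOddOrder G) (hM : IsCoatom M)
    (hnTI : ¬ IsTISubset (sigmaCore M : Set G)) :
    ∃ (p : ℕ) (x : G), p.Prime ∧ x ∈ sigmaCore M ∧ orderOf x = p ∧
      ¬ centralizer ({x} : Set G) ≤ M := by
  unfold IsTISubset at hnTI
  push Not at hnTI
  obtain ⟨g, hg, x₀, hx₀, hgx₀, hx₀1⟩ := hnTI
  have hgM : g ∉ M := fun h => hg (sc_norm M h)
  have ho1 : orderOf x₀ ≠ 1 := fun h => hx₀1 (orderOf_eq_one_iff.1 h)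
  obtain ⟨p, hp, hpd⟩ := Nat.exists_prime_and_dvd ho1
  haveI : Fact p.Prime := ⟨hp⟩
  have hxo : orderOf (x₀ ^ (orderOf x₀ / p)) = p :=
    orderOf_pow_orderOf_div (orderOf_pos x₀).ne' hpd
  set x := x₀ ^ (orderOf x₀ / p) with hx
  have hxH : x ∈ sigmaCore M := pow_mem hx₀ _
  have hgx : g * x * g⁻¹ ∈ sigmaCore M := by
    rw [hx, ← conj_pow]; exact pow_mem hgx₀ _
  refine ⟨p, x, hp, hxH, hxo, fun hc => ?_⟩
  have hpσ : p ∈ sigma M := sc_primes M hp (hxo ▸ orderOf_dvd_natCard _ hxH)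
  have hx1 : x ≠ 1 := by
    intro h
    rw [h, orderOf_one] at hxo
    exact hp.one_lt.ne hxo
  obtain ⟨m, hm, c, hcc, rfl⟩ := (Cfsg.Agent.S1404.result hG M hM p hpσ (zpowers x)
    (IsPGroup.of_card (n := 1) (by rw [Nat.card_zpowers, hxo, pow_one]))
    (by rw [Ne, zpowers_eq_bot]; exact hx1) (zpowers_le.2 (sc_le M hxH))).1 g (by
      rw [map_le_iff_le_comap, zpowers_le, mem_comap]
      exact sc_le M hgx)
  apply hgM
  refine mul_mem hm (hc ?_)
  exact centralizer_le (by simp) hcc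

/-- Step 2: the structure of `M_σ`. -/
theorem core (hG : IsMinSimpleOddOrder G) (hM : IsCoatom M) (hKU : IsSigmaDecomposition M K U)
    (hK1 : K ≠ ⊥) (hU : U = ⊥) (hnil : Group.IsNilpotent (sigmaCore M)) {p : ℕ}
    [hp : Fact p.Prime] {x : G} (hxH : x ∈ sigmaCore M) (hxo : orderOf x = p)
    (hxM : ¬ centralizer ({x} : Set G) ≤ M) :
    IsCyclic (CC p (sigmaCore M)) ∧
      (Nat.card K ∣ p - 1 ∨ (Nat.card (PP p (sigmaCore M)) = p ^ 3 ∧ Nat.card K ∣ p + 1)) := by
  have hx1 : x ≠ 1 := by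
    intro h
    rw [h, orderOf_one] at hxo
    exact hp.out.one_lt.ne hxo
  obtain ⟨N, hB⟩ := exists_big hG (h78 hG) hM hxH hx1 hxM
  have h30 := (Cfsg.Agent.S1430.result hG M hM K hKU.hall hK1).1
  have h31 := (Cfsg.Agent.S1431.result hG M hM K hKU.hall hK1).2.2.1
  have hq : (Nat.card ↥(sigmaCore M ⊓ centralizer (K : Set G))).Prime :=
    Cfsg.Agent.S1373.result hG M hM K U hKU hK1 hU
  have hpd : p ∣ Nat.card (sigmaCore M) := hxo ▸ orderOf_dvd_natCard _ hxH
  have hpσ : p ∈ sigma M := sc_primes M hp.out hpd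
  have hHM : sigmaCore M ≤ M := sc_le M
  have hMH : M ≤ normalizer (sigmaCore M : Set G) := sc_norm M
  generalize sigmaCore M = H at *
  generalize hKs : H ⊓ centralizer (K : Set G) = Ks at *
  have hNM : N ≠ M := by rintro rfl; exact hxM hB.cent
  have hxp : x ^ p = 1 := hxo ▸ pow_orderOf_eq_one x
  have hxP : x ∈ PP p H := le_PP hnil (zpowers_le.2 hxH)
    (IsPGroup.of_card (n := 1) (by rw [Nat.card_zpowers, hxo, pow_one])) (mem_zpowers x)
  have hτ : p ∈ tau2 N := hB.tau p hp.out (hxo ▸ dvd_rfl)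
  have hCle : H ⊓ centralizer ({x} : Set G) ≤ M ⊓ N :=
    le_inf (inf_le_left.trans hHM) (inf_le_right.trans hB.cent)
  have hnσ : ∀ t : ℕ, t.Prime → t ∣ Nat.card ↥(H ⊓ centralizer ({x} : Set G)) → t ∉ sigma N :=
    fun t ht hd => compl_not_sigma hG (ut hG) hB.coatom hB.compl ht (hd.trans (card_dvd_of_le hCle))
  have hCab : IsMulCommutative ↥(H ⊓ centralizer ({x} : Set G)) :=
    (Cfsg.Agent.S1420.result hG N hB.coatom (M ⊓ N) hB.compl).1 _ (hCle.trans inf_le_right)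
      (isNilpotent_of_le inf_le_left hnil) hnσ
  have hrkH : ∀ A : Subgroup G, A ≤ H ⊓ centralizer ({x} : Set G) → IsElementaryAbelian p A →
      Nat.card A ≤ p ^ 2 := fun A hA hE =>
    (pRankLE_iff N).1 hτ.2.2.1 A (hA.trans (hCle.trans inf_le_right)) hE.1 hE.2
  have hCC : CC p H ≤ H ⊓ centralizer ({x} : Set G) :=
    le_inf (CC_le p H) (CC_le_centralizer_PP.trans (centralizer_le (by simpa using hxP)))
  have hqp : Nat.card Ks = p := by
    by_contra hne
    haveI : Fact (Nat.card Ks).Prime := ⟨hq⟩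
    obtain ⟨h1, h2, -⟩ := h31 _ hq dvd_rfl (default : Sylow (Nat.card Ks) ↥H)
    exact hNM (eq_of_inUniqueMaximal h1 hM h2 hB.coatom
      ((sylow_map_le_CC hnil hne _).trans (hCC.trans (inf_le_right.trans hB.cent))))
  have hPU : InUniqueMaximal (PP p H) := by
    obtain ⟨h1, -, -⟩ := h31 p hp.out (hqp ▸ dvd_rfl) (default : Sylow p ↥H)
    rwa [sylow_map_eq_PP hnil] at h1
  have hPN : ¬ PP p H ≤ N := fun h =>
    hNM (eq_of_inUniqueMaximal hPU hM ((PP_le p H).trans hHM) hB.coatom h)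
  have hPx : ¬ PP p H ≤ centralizer ({x} : Set G) := fun h => hPN (h.trans hB.cent)
  have hPna : ¬ IsMulCommutative (PP p H) := by
    intro hc
    apply hPx
    intro y hy
    rw [mem_centralizer_singleton_iff]
    exact congrArg Subtype.val (hc.is_comm.comm (⟨y, hy⟩ : ↥(PP p H)) ⟨x, hxP⟩)
  obtain ⟨A, hAle, hAE, hAc⟩ := hB.exA p hp.out (hxo ▸ dvd_rfl)
  have hτeq : tau2 N = {p} := (Cfsg.Agent.S1419.result hG N hB.coatom (M ⊓ N) hB.compl p hτ
    (sylow_not_comm PP_isPGroup hPna) A ⟨hAle, hAE, hAc⟩).1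
  have hcyc : IsCyclic (CC p H) := by
    haveI : IsZGroup (CC p H) := by
      refine ⟨fun t ht T => ?_⟩
      haveI : Fact t.Prime := ⟨ht⟩
      by_cases hd : t ∣ Nat.card (CC p H)
      · have h1 : t ∉ sigma N := hnσ t ht (hd.trans (card_dvd_of_le hCC))
        have h2 : t ≠ p := by
          rintro rfl
          exact (Nat.Prime.coprime_iff_not_dvd ht).1 card_CC_coprime.symm hd
        have h3 : PRankLE t 1 N := by
          rcases tau2_or_rank_one hG (ut hG) hB.coatom ht h1 with h | h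
          · rw [hτeq] at h; exact absurd h h2
          · exact h
        have h4 : PRankLE t 1 (CC p H) := pRankLE_mono (hCC.trans (hCle.trans inf_le_right)) h3
        exact isCyclic_of_pRankLE_one (MS_prime_ne_two hG hd) T.2
          (Helper23.pRankLE_of_injective t 1 (T : Subgroup ↥(CC p H)).subtype
            (subtype_injective _) h4)
      · have h1 : Nat.card (T : Subgroup (CC p H)) = 1 := by
          rw [T.card_eq_multiplicity, Nat.factorization_eq_zero_of_not_dvd hd, pow_zero]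
        haveI : Subsingleton (T : Subgroup (CC p H)) := (Nat.card_eq_one_iff_unique.mp h1).1
        exact isCyclic_of_subsingleton
    haveI : Group.IsNilpotent (CC p H) := isNilpotent_of_le (CC_le p H) hnil
    infer_instance
  have hKsP : Ks ≤ PP p H := le_PP hnil (hKs ▸ inf_le_left)
    (IsPGroup.of_card (n := 1) (by rw [hqp, pow_one]))
  have hfix : ∀ k ∈ K, k ≠ 1 → PP p H ⊓ centralizer ({k} : Set G) = Ks := by
    intro k hk hk1
    apply le_antisymm
    · exact (inf_le_inf_right _ (PP_le p H)).trans (h30 k hk hk1).le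
    · exact le_inf hKsP ((h30 k hk hk1).ge.trans inf_le_right)
  have hPCle : PP p H ⊓ centralizer ({x} : Set G) ≤ H ⊓ centralizer ({x} : Set G) :=
    inf_le_inf_right _ (PP_le p H)
  have hab : IsMulCommutative ↥(PP p H ⊓ centralizer ({x} : Set G)) :=
    isMulCommutative_of_le hPCle hCab
  have hrk : ∀ A : Subgroup G, A ≤ PP p H ⊓ centralizer ({x} : Set G) → IsElementaryAbelian p A →
      Nat.card A ≤ p ^ 2 := fun A hA => hrkH A (hA.trans hPCle)
  have hEc : Nat.card (omZ p (PP p H ⊓ centralizer ({x} : Set G))) ≤ p ^ 2 :=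
    hrk _ (omZ_le _ _) ⟨omZ_comm _ _, fun a ha => omZ_pow ha⟩
  have hZE : omZ p (PP p H) ≤ omZ p (PP p H ⊓ centralizer ({x} : Set G)) := by
    intro z hz
    have hzc : z ∈ centralizer ({x} : Set G) := centralizer_le (by simpa using hxP) hz.2.1
    exact ⟨⟨hz.1, hzc⟩, centralizer_le (fun y hy => hy.1) hz.2.1, hz.2.2⟩
  have hxE : x ∈ omZ p (PP p H ⊓ centralizer ({x} : Set G)) := by
    refine ⟨⟨hxP, mem_centralizer_singleton_iff.2 rfl⟩, ?_, hxp⟩
    rw [mem_centralizer_iff]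
    intro y hy
    exact mem_centralizer_singleton_iff.1 hy.2
  have hxZ : x ∉ omZ p (PP p H) := fun h => hPx (by
    intro y hy
    rw [mem_centralizer_singleton_iff]
    exact mem_centralizer_iff.1 h.2.1 y hy)
  have hP1 : PP p H ≠ ⊥ := fun h => hx1 (by rw [h, mem_bot] at hxP; exact hxP)
  have hZcard : Nat.card (omZ p (PP p H)) = p := by
    have hlt : Nat.card (omZ p (PP p H)) < p ^ 2 := by
      refine lt_of_lt_of_le ?_ hEc
      by_contra hcon
      exact hxZ ((eq_of_le_of_card_ge hZE (not_lt.1 hcon)) ▸ hxE)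
    obtain ⟨m, hm⟩ := IsPGroup.iff_card.1 (PP_isPGroup.to_le (omZ_le p _) :
      IsPGroup p (omZ p (PP p H)))
    have hZ1 : omZ p (PP p H) ≠ ⊥ := omZ_ne_bot PP_isPGroup hP1
    rw [hm] at hlt
    have hm2 : m < 2 := (Nat.pow_lt_pow_iff_right hp.out.one_lt).1 hlt
    have hm0 : m ≠ 0 := by
      rintro rfl
      exact hZ1 (eq_bot_of_card_eq _ (by rw [hm, pow_zero]))
    have : m = 1 := by omega
    rw [hm, this, pow_one]
  have hKM : K ≤ M := hKU.hall.1
  have hKP : K ≤ normalizer (PP p H : Set G) :=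
    hKM.trans (hMH.trans (normalizer_le_normalizer_PP hnil))
  have hKZ : K ≤ normalizer (omZ p (PP p H) : Set G) :=
    hKP.trans (normalizer_le_normalizer_omZ p _)
  have hKp : (Nat.card K).Coprime p := by
    refine ((Nat.Prime.coprime_iff_not_dvd hp.out).2 fun hd => ?_).symm
    exact (hKU.hall.2.1 p hp.out hd).2.2.1 hpσ
  refine ⟨hcyc, ?_⟩
  by_cases hfree : ∀ k ∈ K, k ≠ 1 → omZ p (PP p H) ⊓ centralizer ({k} : Set G) ≤ ⊥
  · left
    have h := card_dvd_sub (bot_le : ⊥ ≤ omZ p (PP p H)) hKZ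
      (fun k _ => mem_normalizer_iff.2 (fun h => by rw [mem_bot, mem_bot, conj_eq_one_iff])) hfree
    rwa [hZcard, card_bot] at h
  · push Not at hfree
    obtain ⟨k, hk, hk1, hne⟩ := hfree
    obtain ⟨z, hz, hz1⟩ : ∃ z ∈ omZ p (PP p H) ⊓ centralizer ({k} : Set G), z ≠ 1 := by
      by_contra hcon
      push Not at hcon
      exact hne (fun z hz => mem_bot.2 (hcon z hz))
    have hzK : z ∈ Ks := (hfix k hk hk1).le ⟨omZ_le _ _ hz.1, hz.2⟩
    have hZK : Ks = omZ p (PP p H) := by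
      rw [eq_zpowers_of_card_prime hqp hzK hz1, ← eq_zpowers_of_card_prime hZcard hz.1 hz1]
    haveI := hKU.cyclic
    exact pgroup_main (MS_prime_ne_two hG hpd) PP_isPGroup hKP inferInstance (MS_odd hG K) hKp hqp
      hKsP (hZK ▸ omZ_le_centralizer _ _) hfix hPna hxP hxp hab hrk

/-- BG 15.7 for maximal subgroups with `K ≠ 1`, `U = 1`, `M_F = M_σ` not a TI-subset. -/
theorem nonTI_P1 (hG : IsMinSimpleOddOrder G) (hM : IsCoatom M)
    (hKU : IsSigmaDecomposition M K U) (hK1 : K ≠ ⊥) (hU : U = ⊥)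
    (hH : fittingHallOf M = sigmaCore M) (hnTI : ¬ IsTISubset (fittingHallOf M : Set G)) :
    (∃ p, p.Prime ∧ p ∣ Nat.card (fittingHallOf M) ∧ Nat.card K ∣ p - 1 ∧
        IsCyclic (pPrimeCore p (fittingHallOf M))) ∨
      (∃ p, p.Prime ∧ p ∣ Nat.card (fittingHallOf M) ∧
        Nat.card (pCore p (fittingHallOf M)) = p ^ 3 ∧ Nat.card K ∣ p + 1 ∧
        IsCyclic (pPrimeCore p (fittingHallOf M))) := by
  have hnil : Group.IsNilpotent (fittingHallOf M) := Helper26.BGTypes.fh_nil M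
  rw [hH] at hnTI hnil ⊢
  obtain ⟨p, x, hp, hxH, hxo, hxM⟩ := exists_bad hG hM hnTI
  haveI : Fact p.Prime := ⟨hp⟩
  have hpd : p ∣ Nat.card (sigmaCore M) := hxo ▸ orderOf_dvd_natCard _ hxH
  obtain ⟨hc, h | ⟨h3, h⟩⟩ := core hG hM hKU hK1 hU hnil hxH hxo hxM
  · exact Or.inl ⟨p, hp, hpd, h, isCyclic_of_CC hc⟩
  · exact Or.inr ⟨p, hp, hpd, (card_PP p _).symm.trans h3, h, isCyclic_of_CC hc⟩

end Cfsg.Agent.Lib.Helper49.BG157
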