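import Mathlib.GroupTheory.Sylow
import Mathlib.GroupTheory.PGroup
import Mathlib.GroupTheory.Index
import Mathlib.GroupTheory.Nilpotent

/-!
Conjugates `cj g X = g X g⁻¹` of subgroups, and Sylow `p`-subgroups of a subgroup `X` of an ambient finite group,
handled as subgroups of the ambient group (`SylIn p P X`).
-/

set_option autoImplicit false

namespace Cfsg.Agent.Lib.Helper49

open Subgroup

variable {G : Type*} [Group G]

/-- `g X g⁻¹`. -/
abbrev cj (g : G) (X : Subgroup G) : Subgroup G := X.map (MulAut.conj g).toMonoidHom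

theorem mem_cj {g a : G} {X : Subgroup G} : a ∈ cj g X ↔ g⁻¹ * a * g ∈ X := by
  constructor
  · rintro ⟨b, hb, rfl⟩
    simpa [mul_assoc] using hb
  · intro h
    exact ⟨_, h, by simp [mul_assoc]⟩

theorem conj_mem_cj {a : G} {X : Subgroup G} (g : G) (ha : a ∈ X) : g * a * g⁻¹ ∈ cj g X :=
  ⟨a, ha, rfl⟩

theorem cj_one (X : Subgroup G) : cj 1 X = X := by
  ext a; simp

theorem cj_cj (g h : G) (X : Subgroup G) : cj g (cj h X) = cj (g * h) X := by
  ext a; simp [mul_assoc]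

theorem cj_inv_cj (g : G) (X : Subgroup G) : cj g⁻¹ (cj g X) = X := by
  rw [cj_cj, inv_mul_cancel, cj_one]

theorem cj_cj_inv (g : G) (X : Subgroup G) : cj g (cj g⁻¹ X) = X := by
  rw [cj_cj, mul_inv_cancel, cj_one]

theorem cj_mono {X Y : Subgroup G} (g : G) (h : X ≤ Y) : cj g X ≤ cj g Y := map_mono h

theorem cj_le_iff {g : G} {X Y : Subgroup G} : cj g X ≤ Y ↔ X ≤ cj g⁻¹ Y := by
  constructor
  · intro h
    have := cj_mono g⁻¹ h
    rwa [cj_inv_cj] at this
  · intro h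
    have := cj_mono g h
    rwa [cj_cj_inv] at this

theorem cj_le_cj_iff {g : G} {X Y : Subgroup G} : cj g X ≤ cj g Y ↔ X ≤ Y := by
  rw [cj_le_iff, cj_inv_cj]

theorem cj_injective (g : G) : Function.Injective (cj g : Subgroup G → Subgroup G) := by
  intro X Y h
  have := congrArg (cj g⁻¹) h
  rwa [cj_inv_cj, cj_inv_cj] at this

theorem cj_inf (g : G) (X Y : Subgroup G) : cj g (X ⊓ Y) = cj g X ⊓ cj g Y :=
  map_inf X Y _ (MulAut.conj g).injective

theorem cj_sup (g : G) (X Y : Subgroup G) : cj g (X ⊔ Y) = cj g X ⊔ cj g Y :=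
  map_sup X Y _

theorem cj_bot (g : G) : cj g (⊥ : Subgroup G) = ⊥ := Subgroup.map_bot _

theorem cj_top (g : G) : cj g (⊤ : Subgroup G) = ⊤ := by
  ext a
  rw [mem_cj]
  simp

theorem cj_eq_bot_iff {g : G} {X : Subgroup G} : cj g X = ⊥ ↔ X = ⊥ :=
  map_eq_bot_iff_of_injective _ (MulAut.conj g).injective

theorem cj_eq_iff_mem_normalizer {g : G} {X : Subgroup G} :
    cj g X = X ↔ g ∈ normalizer (X : Set G) :=
  mem_normalizer_iff_map_conj_eq.symm

theorem cj_eq_of_mem {g : G} {X : Subgroup G} (hg : g ∈ X) : cj g X = X :=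
  cj_eq_iff_mem_normalizer.mpr (le_normalizer hg)

theorem card_cj (g : G) (X : Subgroup G) : Nat.card (cj g X) = Nat.card X :=
  card_map_of_injective (MulAut.conj g).injective

theorem isPGroup_cj {p : ℕ} {X : Subgroup G} (g : G) (h : IsPGroup p X) : IsPGroup p (cj g X) :=
  h.map _

theorem relIndex_cj (g : G) (X Y : Subgroup G) : (cj g X).relIndex (cj g Y) = X.relIndex Y :=
  relIndex_map_map_of_injective X Y (MulAut.conj g).injective

theorem normalizer_cj (g : G) (X : Subgroup G) :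
    normalizer (cj g X : Set G) = cj g (normalizer (X : Set G)) := by
  ext a
  rw [mem_cj, ← cj_eq_iff_mem_normalizer, ← cj_eq_iff_mem_normalizer, cj_cj]
  constructor
  · intro h
    have := congrArg (cj g⁻¹) h
    rw [cj_cj, cj_inv_cj] at this
    rw [← this]; congr 1; group
  · intro h
    have := congrArg (cj g) h
    rw [cj_cj] at this
    rw [← this]; congr 1; group

theorem centralizer_cj (g : G) (X : Subgroup G) :
    centralizer (cj g X : Set G) = cj g (centralizer (X : Set G)) := by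
  ext a
  rw [mem_cj, mem_centralizer_iff, mem_centralizer_iff]
  constructor
  · intro h x hx
    have := h _ (conj_mem_cj g hx)
    calc x * (g⁻¹ * a * g) = g⁻¹ * ((g * x * g⁻¹) * a) * g := by group
      _ = g⁻¹ * (a * (g * x * g⁻¹)) * g := by rw [this]
      _ = g⁻¹ * a * g * x := by group
  · rintro h _ ⟨x, hx, rfl⟩
    have := h x hx
    simp only [MulEquiv.coe_toMonoidHom, MulAut.conj_apply]
    calc g * x * g⁻¹ * a = g * (x * (g⁻¹ * a * g)) * g⁻¹ := by group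
      _ = g * ((g⁻¹ * a * g) * x) * g⁻¹ := by rw [this]
      _ = a * (g * x * g⁻¹) := by group

theorem coe_smul_sylow {p : ℕ} (g : G) (P : Sylow p G) :
    ((g • P : Sylow p G) : Subgroup G) = cj g (P : Subgroup G) := rfl

/-- `P` is a Sylow `p`-subgroup of the subgroup `X` (all inside the ambient group). -/
def SylIn (p : ℕ) (P X : Subgroup G) : Prop :=
  P ≤ X ∧ IsPGroup p P ∧ ¬ p ∣ P.relIndex X

theorem SylIn.le {p : ℕ} {P X : Subgroup G} (h : SylIn p P X) : P ≤ X := h.1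

theorem SylIn.isPGroup {p : ℕ} {P X : Subgroup G} (h : SylIn p P X) : IsPGroup p P := h.2.1

theorem SylIn.cj {p : ℕ} {P X : Subgroup G} (h : SylIn p P X) (g : G) :
    SylIn p (cj g P) (cj g X) :=
  ⟨cj_mono g h.1, isPGroup_cj g h.2.1, by rw [relIndex_cj]; exact h.2.2⟩

theorem SylIn.cj_of_mem {p : ℕ} {P X : Subgroup G} (h : SylIn p P X) {g : G} (hg : g ∈ X) :
    SylIn p (Helper49.cj g P) X := by
  have := h.cj g
  rwa [cj_eq_of_mem hg] at this

theorem exists_sylow_map_eq_iff [Finite G] {p : ℕ} [Fact p.Prime] {P X : Subgroup G} :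
    (∃ Q : Sylow p X, (Q : Subgroup X).map X.subtype = P) ↔ SylIn p P X := by
  constructor
  · rintro ⟨Q, rfl⟩
    refine ⟨map_subtype_le _, Q.isPGroup'.map _, ?_⟩
    have : ((Q : Subgroup X).map X.subtype).relIndex X = (Q : Subgroup X).index := by
      rw [relIndex, subgroupOf, comap_map_eq_self_of_injective X.subtype_injective]
    rw [this]
    exact Q.not_dvd_index
  · rintro ⟨h1, h2, h3⟩
    refine ⟨(h2.comap_subtype (K := X)).toSylow h3, ?_⟩
    exact map_subgroupOf_eq_of_le h1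

theorem sylIn_map_sylow [Finite G] {p : ℕ} [Fact p.Prime] {X : Subgroup G} (Q : Sylow p X) :
    SylIn p ((Q : Subgroup X).map X.subtype) X :=
  exists_sylow_map_eq_iff.mp ⟨Q, rfl⟩

theorem sylIn_top_iff [Finite G] {p : ℕ} [Fact p.Prime] {P : Subgroup G} :
    SylIn p P ⊤ ↔ ∃ S : Sylow p G, (S : Subgroup G) = P := by
  constructor
  · rintro ⟨-, h2, h3⟩
    rw [relIndex_top_right] at h3
    exact ⟨h2.toSylow h3, rfl⟩
  · rintro ⟨S, rfl⟩
    refine ⟨le_top, S.isPGroup', ?_⟩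
    rw [relIndex_top_right]
    exact S.not_dvd_index

theorem sylIn_top_sylow [Finite G] {p : ℕ} [Fact p.Prime] (S : Sylow p G) :
    SylIn p (S : Subgroup G) ⊤ :=
  sylIn_top_iff.mpr ⟨S, rfl⟩

/-- Every `p`-subgroup of `X` lies in a Sylow `p`-subgroup of `X`. -/
theorem exists_sylIn_ge [Finite G] {p : ℕ} [Fact p.Prime] {D X : Subgroup G} (hD : IsPGroup p D)
    (hDX : D ≤ X) : ∃ P, SylIn p P X ∧ D ≤ P := by
  obtain ⟨Q, hQ⟩ := (hD.comap_subtype (K := X)).exists_le_sylow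
  refine ⟨_, sylIn_map_sylow Q, ?_⟩
  intro d hd
  exact ⟨⟨d, hDX hd⟩, hQ (mem_subgroupOf.mpr hd), rfl⟩

/-- Sylow `p`-subgroups of `X` are conjugate in `X`. -/
theorem SylIn.exists_conj [Finite G] {p : ℕ} [Fact p.Prime] {P P' X : Subgroup G}
    (h : SylIn p P X) (h' : SylIn p P' X) : ∃ x ∈ X, Helper49.cj x P = P' := by
  obtain ⟨Q, rfl⟩ := exists_sylow_map_eq_iff.mpr h
  obtain ⟨Q', rfl⟩ := exists_sylow_map_eq_iff.mpr h'
  obtain ⟨x, hx⟩ := MulAction.exists_smul_eq X Q Q'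
  refine ⟨x, x.2, ?_⟩
  rw [← hx]
  ext a
  constructor
  · rintro ⟨_, ⟨b, hb, rfl⟩, rfl⟩
    exact ⟨x * b * x⁻¹, ⟨b, hb, rfl⟩, rfl⟩
  · rintro ⟨_, ⟨b, hb, rfl⟩, rfl⟩
    exact ⟨b, ⟨b, hb, rfl⟩, rfl⟩

theorem SylIn.card_eq [Finite G] {p : ℕ} [Fact p.Prime] {P P' X : Subgroup G}
    (h : SylIn p P X) (h' : SylIn p P' X) : Nat.card P = Nat.card P' := by
  obtain ⟨x, -, rfl⟩ := h.exists_conj h'
  exact (card_cj x P).symm

/-- Maximality of Sylow subgroups. -/
theorem SylIn.eq_of_le [Finite G] {p : ℕ} [Fact p.Prime] {P Q X : Subgroup G} (h : SylIn p P X)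
    (hQ : IsPGroup p Q) (hQX : Q ≤ X) (hPQ : P ≤ Q) : Q = P := by
  obtain ⟨P', hP', hQP'⟩ := exists_sylIn_ge hQ hQX
  have h1 : P = P' := eq_of_le_of_card_ge (hPQ.trans hQP') (h.card_eq hP').ge
  exact le_antisymm (h1 ▸ hQP') hPQ

theorem SylIn.of_le {p : ℕ} {P X Y : Subgroup G} (h : SylIn p P X) (hPY : P ≤ Y) (hYX : Y ≤ X) :
    SylIn p P Y :=
  ⟨hPY, h.2.1, fun hd => h.2.2 (by rw [← relIndex_mul_relIndex P Y X hPY hYX]; exact hd.mul_right _)⟩

/-- A `p`-subgroup of `X` of the order of a Sylow `p`-subgroup of `X` is one. -/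
theorem SylIn.of_card_eq [Finite G] {p : ℕ} [Fact p.Prime] {P Q X : Subgroup G} (h : SylIn p P X)
    (hQ : IsPGroup p Q) (hQX : Q ≤ X) (hc : Nat.card P ≤ Nat.card Q) : SylIn p Q X := by
  obtain ⟨P', hP', hQP'⟩ := exists_sylIn_ge hQ hQX
  have h1 : Q = P' := eq_of_le_of_card_ge hQP' ((h.card_eq hP').symm.le.trans hc)
  exact h1 ▸ hP'

/-- If `Y ≤ X` contains a Sylow `p`-subgroup of `X`, the Sylow `p`-subgroups of `Y` are Sylow in `X`. -/
theorem SylIn.mono [Finite G] {p : ℕ} [Fact p.Prime] {P P₀ X Y : Subgroup G} (h : SylIn p P Y)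
    (hYX : Y ≤ X) (h₀ : SylIn p P₀ X) (h₀Y : P₀ ≤ Y) : SylIn p P X :=
  h₀.of_card_eq h.2.1 (h.1.trans hYX) ((h₀.of_le h₀Y hYX).card_eq h).le

/-- If `P*` is a `p`-group containing a Sylow `p`-subgroup `P` of `X`, then `P* ⊓ X = P`. -/
theorem SylIn.inf_eq [Finite G] {p : ℕ} [Fact p.Prime] {P Q X : Subgroup G} (h : SylIn p P X)
    (hQ : IsPGroup p Q) (hPQ : P ≤ Q) : Q ⊓ X = P :=
  h.eq_of_le (hQ.to_le inf_le_left) inf_le_right (le_inf hPQ h.1)

/-- Normalizers grow in `p`-groups. -/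
theorem exists_mem_normalizer_not_mem [Finite G] {p : ℕ} [Fact p.Prime] {D S : Subgroup G}
    (hS : IsPGroup p S) (hDS : D ≤ S) (hne : D ≠ S) :
    D < S ⊓ normalizer (D : Set G) := by
  have : Group.IsNilpotent S := hS.isNilpotent
  have hnc : NormalizerCondition S := Group.normalizerCondition_of_isNilpotent
  have hlt : D.subgroupOf S < ⊤ := by
    rw [lt_top_iff_ne_top]
    intro h
    rw [subgroupOf_eq_top] at h
    exact hne (le_antisymm hDS h)
  obtain ⟨x, hxN, hxD⟩ := SetLike.exists_of_lt (hnc _ hlt)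
  rw [← subgroupOf_normalizer_eq hDS, mem_subgroupOf] at hxN
  rw [mem_subgroupOf] at hxD
  refine lt_of_le_of_ne (le_inf hDS le_normalizer) ?_
  intro h
  apply hxD
  rw [h]
  exact mem_inf.mpr ⟨x.2, hxN⟩

end Cfsg.Agent.Lib.Helper49
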